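import Cfsg.Agent.Lib.Subspaces.OrthDecompMax

/-! Maximality of stabilisers of decompositions into blocks of odd dimension at least five. -/

set_option autoImplicit false

namespace Cfsg.Agent.Lib.OmegaTen.HalfMax

open Matrix Cfsg.Agent.Lib.Subspaces.Transvection Cfsg.Agent.Lib.Subspaces.OrthForm
  Cfsg.Agent.Lib.Subspaces.Decomposition Cfsg.Agent.Lib.Subspaces.OrthDecomp

variable {ι : Type} [Fintype ι] [DecidableEq ι] {F : Type*} [Field F]
  {Q : (ι → F) → F} {t k : ℕ} {D : Fin t → Submodule F (ι → F)}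

theorem maximal [Finite F] (hQ : Cfsg.Geo.IsNondegenerateQuadraticForm Q) (h2 : (2 : F) ≠ 0)
    (hn : 5 ≤ Fintype.card ι) (hD : Cfsg.Geo.IsOrthogonalMDecomposition Q k D) (hk : 5 ≤ k) :
    Cfsg.Geo.IsMaximalIn (Cfsg.Geo.omegaGL Q)
      (Cfsg.Geo.decompositionStabilizer D ⊓ Cfsg.Geo.omegaGL Q) := by
  refine isMaximalIn_of inf_le_right ?_ fun M hHM hMK g hgM hgH => ?_
  · obtain ⟨g, hg, hgs⟩ := exists_not_stab hQ hn hD (by omega) (Or.inr (by omega))
    exact ⟨g, hg, fun hmem => hgs hmem.1⟩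
  · refine Cfsg.Agent.Lib.Subspaces.OrthDecompOdd.omega_le_of_decomp
      (Cfsg.Agent.Lib.Subspaces.OrthDecompOdd.ctx_of hQ h2 hn hD (by omega) (fun h => by omega) hHM hMK) h2 (by omega)
      (fun h => by omega) (Or.inr hk) hgM fun e => hgH ⟨e, hMK hgM⟩

end Cfsg.Agent.Lib.OmegaTen.HalfMax
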