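import Cfsg.Agent.Lib.K41.ExtForm.OfMatrix

/-!
A hermitian form over a quadratic extension, seen over the ground field as a quadratic form: a group
of isometries containing the linear transvections and one non-semilinear element contains every
Siegel transformation (any characteristic).
Owner: helper41.
-/
set_option autoImplicit false
set_option linter.unusedSectionVars false
set_option linter.style.haveILetI false

namespace Cfsg.Agent.Lib.OmegaTen.OrthHerm2

open Module Cfsg.Agent.Lib.ExtFieldMax Cfsg.Agent.Lib.K41.ExtForm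

/-- The Siegel map. -/
def sfun {F V : Type*} [Field F] [AddCommGroup V] [Module F V] (B : V → V → F) (Q : V → F)
    (u w z : V) : V := z + B z u • w + (-(B z w) - Q w * B z u) • u

/-- The data. -/
structure Setting (F K V : Type*) [Field F] [Field K] [Algebra F K] [AddCommGroup V] [Module F V]
    [Module K V] where
  τ : K ≃ₐ[F] K
  θ : K
  h : V → V → K
  Q : V → F
  θ_moved : τ θ ≠ θ
  tau_tau : ∀ x, τ (τ x) = x
  fixed : ∀ x, τ x = x → x ∈ Set.range (algebraMap F K)
  trace_eq : ∀ x, algebraMap F K (Algebra.trace F K x) = x + τ x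
  norm_surj : ∀ t : F, ∃ β : K, β * τ β = algebraMap F K t
  add_left : ∀ x y z, h (x + y) z = h x z + h y z
  smul_left : ∀ (c : K) (x z : V), h (c • x) z = c * h x z
  add_right : ∀ x y z, h x (y + z) = h x y + h x z
  smul_right : ∀ (c : K) (x z : V), h x (c • z) = τ c * h x z
  herm : ∀ x y, h y x = τ (h x y)
  nondeg : ∀ x, (∀ y, h x y = 0) → x = 0
  hQ : ∀ x, algebraMap F K (Q x) = h x x
  M : Subgroup (V ≃ₗ[F] V)
  iso : ∀ g ∈ M, ∀ x y, Algebra.trace F K (h (g x) (g y)) = Algebra.trace F K (h x y)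
  isoQ : ∀ g ∈ M, ∀ x, Q (g x) = Q x
  root_mem : ∀ (e : V) (t : F), Q e = 0 →
    ∃ g ∈ M, ∀ z, g z = z + (algebraMap F K t * (θ - τ θ) * h z e) • e
  dim : 5 ≤ finrank K V

variable {F K V : Type*} [Field F] [Field K] [Algebra F K] [AddCommGroup V] [Module F V]
  [Module K V] [IsScalarTower F K V] [Finite F] [Finite K] [Finite V]

namespace Setting

variable (S : Setting F K V)

/-- The polar form. -/
noncomputable def B (x y : V) : F := Algebra.trace F K (S.h x y)

/-- The skew scalar. -/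
noncomputable def ε : K := S.θ - S.τ S.θ

theorem ε_ne : S.ε ≠ 0 := sub_ne_zero.2 (Ne.symm S.θ_moved)

theorem tau_ε : S.τ S.ε = -S.ε := by rw [ε, map_sub, S.tau_tau, neg_sub]

theorem B_eq (x y : V) : algebraMap F K (S.B x y) = S.h x y + S.τ (S.h x y) := S.trace_eq _

theorem B_comm (x y : V) : S.B y x = S.B x y :=
  (algebraMap F K).injective (by rw [S.B_eq, S.B_eq, S.herm x y, S.tau_tau, add_comm])

theorem zero_left (x : V) : S.h 0 x = 0 := by
  rw [← zero_smul K (0 : V), S.smul_left, zero_mul]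

theorem zero_right (x : V) : S.h x 0 = 0 := by
  rw [← zero_smul K (0 : V), S.smul_right, map_zero, zero_mul]

theorem sub_left (x y z : V) : S.h (x - y) z = S.h x z - S.h y z := by
  rw [sub_eq_add_neg, ← neg_one_smul K y, S.add_left, S.smul_left]; ring

theorem sub_right (x y z : V) : S.h x (y - z) = S.h x y - S.h x z := by
  rw [sub_eq_add_neg, ← neg_one_smul K z, S.add_right, S.smul_right, map_neg, map_one]; ring

theorem h_self_eq_zero {x : V} : S.h x x = 0 ↔ S.Q x = 0 := by rw [← S.hQ, map_eq_zero]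

theorem B_add_left (x y z : V) : S.B (x + y) z = S.B x z + S.B y z := by
  rw [B, S.add_left, map_add]; rfl

theorem B_add_right (x y z : V) : S.B x (y + z) = S.B x y + S.B x z := by
  rw [B, S.add_right, map_add]; rfl

theorem B_smul_left (a : F) (x z : V) : S.B (a • x) z = a * S.B x z := by
  rw [B, ← algebraMap_smul K a x, S.smul_left, ← Algebra.smul_def, map_smul]; rfl

theorem B_smul_right (a : F) (x z : V) : S.B x (a • z) = a * S.B x z := by
  rw [S.B_comm, S.B_smul_left, S.B_comm]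

theorem B_zero_of_h {x y : V} (h0 : S.h x y = 0) : S.B x y = 0 := by rw [B, h0, map_zero]

theorem Q_add (x y : V) : S.Q (x + y) = S.Q x + S.Q y + S.B x y :=
  (algebraMap F K).injective (by
    rw [map_add, map_add, S.hQ, S.hQ, S.hQ, S.B_eq, S.add_left, S.add_right, S.add_right, S.herm x y]
    ring)

theorem Q_smul (a : F) (x : V) : S.Q (a • x) = a ^ 2 * S.Q x :=
  (algebraMap F K).injective (by
    rw [map_mul, map_pow, S.hQ, S.hQ, ← algebraMap_smul K a x, S.smul_left, S.smul_right,
      AlgEquiv.commutes]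
    ring)

theorem exists_trace (a : F) : ∃ α : K, α + S.τ α = algebraMap F K a := by
  haveI : FiniteDimensional F K := Module.Finite.of_finite
  obtain ⟨α, hα⟩ := Algebra.trace_surjective F K a
  exact ⟨α, by rw [← S.trace_eq, hα]⟩

theorem exists_decomp (S : Setting F K V) (c : K) :
    ∃ a b : F, c = algebraMap F K a + algebraMap F K b * S.θ := by
  obtain ⟨b, hb⟩ := S.fixed ((c - S.τ c) / S.ε) (by
    rw [map_div₀, map_sub, S.tau_tau, S.tau_ε, div_neg, ← neg_div, neg_sub])
  obtain ⟨a, ha⟩ := S.fixed (c - algebraMap F K b * S.θ) (by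
    have h1 : algebraMap F K b * S.ε = c - S.τ c := by rw [hb, div_mul_cancel₀ _ S.ε_ne]
    rw [map_sub, map_mul, AlgEquiv.commutes]
    rw [ε] at h1
    linear_combination h1)
  exact ⟨a, b, by rw [ha]; ring⟩

/-- A vector with non-zero value orthogonal to at most three. -/
theorem exists_aniso (S : Setting F K V) {k : ℕ} (hk : k ≤ 2) (s : Fin k → V) :
    ∃ x, (∀ i, S.h x (s i) = 0) ∧ S.h x x ≠ 0 := by
  haveI : FiniteDimensional K V := Module.Finite.of_finite
  let φ : V →ₗ[K] (Fin k → K) :=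
    { toFun := fun x i => S.h x (s i)
      map_add' := fun x y => funext fun i => S.add_left x y (s i)
      map_smul' := fun a x => funext fun i => S.smul_left a x (s i) }
  set P := LinearMap.ker φ
  have hP : finrank K V ≤ finrank K P + k := by
    show _ ≤ finrank K (LinearMap.ker φ) + k
    have h1 := LinearMap.finrank_range_add_finrank_ker φ
    have h2 := (LinearMap.range φ).finrank_le
    rw [Module.finrank_fin_fun] at h2
    omega
  by_contra hcon
  push Not at hcon
  have h0 : ∀ x ∈ P, S.h x x = 0 := fun x hx => hcon x fun i => congrFun (LinearMap.mem_ker.1 hx) i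
  have hTI : ∀ x ∈ P, ∀ y ∈ P, S.h x y = 0 := by
    have key : ∀ x ∈ P, ∀ y ∈ P, S.h x y + S.τ (S.h x y) = 0 := fun x hx y hy => by
      have h1 := h0 _ (P.add_mem hx hy)
      rw [S.add_left, S.add_right, S.add_right, h0 x hx, h0 y hy, S.herm x y] at h1
      linear_combination h1
    intro x hx y hy
    have h1 := key _ (P.smul_mem S.θ hx) y hy
    rw [S.smul_left, map_mul] at h1
    have h2 : S.ε * S.h x y = 0 := by
      rw [ε]; linear_combination h1 - S.τ S.θ * key x hx y hy
    exact (mul_eq_zero.1 h2).resolve_left S.ε_ne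
  let L : P → Submodule.dualAnnihilator P := fun y => ⟨
        { toFun := fun z => S.τ (S.h y.1 z)
          map_add' := fun a b => by rw [S.add_right, map_add]
          map_smul' := fun a z => by rw [S.smul_right, map_mul, S.tau_tau]; rfl },
        (Submodule.mem_dualAnnihilator _).2 fun z hz => by
          show S.τ (S.h y.1 z) = 0
          rw [hTI _ y.2 z hz, map_zero]⟩
  have hinj : Function.Injective L := by
    intro a b hab
    apply Subtype.ext
    rw [← sub_eq_zero]
    refine S.nondeg _ fun z => ?_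
    have h1 := LinearMap.congr_fun (congrArg Subtype.val hab) z
    rw [S.sub_left, sub_eq_zero]
    exact S.τ.injective h1
  haveI : Finite (Module.Dual K V) := Module.finite_of_finite K
  have h1 := Nat.card_le_card_of_injective L hinj
  rw [Module.natCard_eq_pow_finrank (K := K) (V := P),
    Module.natCard_eq_pow_finrank (K := K) (V := Submodule.dualAnnihilator P),
    Nat.pow_le_pow_iff_right Finite.one_lt_card] at h1
  have h2 := Subspace.finrank_add_finrank_dualAnnihilator_eq P
  have h3 := S.dim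
  omega

/-- Independent vectors and prescribed values: some solution. -/
theorem exists_val {k : ℕ} (s : Fin k → V)
    (hs : ∀ c : Fin k → K, ∑ i, c i • s i = 0 → ∀ i, c i = 0) (a : Fin k → K) :
    ∃ y, ∀ i, S.h (s i) y = a i := by
  let φ : V →ₗ[K] (Fin k → K) :=
    { toFun := fun x i => S.h x (s i)
      map_add' := fun x y => funext fun i => S.add_left x y (s i)
      map_smul' := fun c x => funext fun i => S.smul_left c x (s i) }
  have hsurj : Function.Surjective φ := by
    rw [← LinearMap.range_eq_top]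
    by_contra hne
    obtain ⟨ψ, hψ, hker⟩ := Submodule.exists_le_ker_of_lt_top _ (lt_top_iff_ne_top.2 hne)
    apply hψ
    have hsingle : ∀ (i : Fin k) (b : K), ψ (Pi.single i b) = b * ψ (Pi.single i 1) := fun i b => by
      rw [← smul_eq_mul b (ψ _), ← map_smul, ← Pi.single_smul', smul_eq_mul, mul_one]
    have hc : ∀ i, S.τ (ψ (Pi.single i 1)) = 0 := by
      refine hs _ (S.nondeg _ fun x => ?_)
      have h1 : ψ (φ x) = 0 := hker ⟨x, rfl⟩
      rw [← Finset.univ_sum_single (φ x), map_sum] at h1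
      have h2 : S.h x (∑ i, S.τ (ψ (Pi.single i 1)) • s i) = 0 := by
        rw [← h1]
        let L : V →+ K := AddMonoidHom.mk' (S.h x) (S.add_right x)
        show L _ = _
        rw [map_sum]
        refine Finset.sum_congr rfl fun i _ => ?_
        show S.h x _ = _
        rw [S.smul_right, S.tau_tau, hsingle i (φ x i), mul_comm]
        rfl
      rw [S.herm, h2, map_zero]
    refine LinearMap.pi_ext fun i b => ?_
    rw [LinearMap.zero_apply, hsingle,
      show ψ (Pi.single i 1) = 0 from S.τ.injective (by rw [hc, map_zero]), mul_zero]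
  obtain ⟨y0, hy0⟩ := hsurj fun i => S.τ (a i)
  exact ⟨y0, fun i => by rw [S.herm, show S.h y0 (s i) = _ from congrFun hy0 i, S.tau_tau]⟩

/-- A solution can be shifted along an anisotropic vector of the kernel to a singular one. -/
theorem exists_sing_of {k : ℕ} (s : Fin k → V)
    (hs : ∀ c : Fin k → K, ∑ i, c i • s i = 0 → ∀ i, c i = 0) (a : Fin k → K) {z : V}
    (hz : ∀ i, S.h z (s i) = 0) (hzz : S.h z z ≠ 0) :
    ∃ y, (∀ i, S.h (s i) y = a i) ∧ S.Q y = 0 := by
  obtain ⟨y0, hval⟩ := S.exists_val s hs a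
  set δ : K := S.h y0 z / S.h z z
  have hfix : S.τ (δ * S.τ δ - S.h y0 y0 / S.h z z) = δ * S.τ δ - S.h y0 y0 / S.h z z := by
    have e1 : S.τ (S.h y0 y0) = S.h y0 y0 := (S.herm _ _).symm
    have e2 : S.τ (S.h z z) = S.h z z := (S.herm _ _).symm
    rw [map_sub, map_mul, S.tau_tau, map_div₀ S.τ (S.h y0 y0), e1, e2]; ring
  obtain ⟨t, ht⟩ := S.fixed _ hfix
  obtain ⟨γ, hγ⟩ := S.norm_surj t
  rw [ht] at hγ
  refine ⟨y0 + (γ - δ) • z, fun i => ?_, ?_⟩
  · rw [S.add_right, S.smul_right, S.herm z (s i), hz i, map_zero, mul_zero, add_zero, hval]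
  · rw [← S.h_self_eq_zero, S.add_left, S.add_right, S.add_right, S.smul_left, S.smul_left,
      S.smul_right, S.smul_right, map_sub, S.herm y0 z]
    have hδ : S.h y0 z = δ * S.h z z := (div_mul_cancel₀ _ hzz).symm
    have hzt : S.τ (S.h z z) = S.h z z := (S.herm z z).symm
    have h00 : S.h y0 y0 / S.h z z * S.h z z = S.h y0 y0 := div_mul_cancel₀ _ hzz
    rw [hδ, map_mul, hzt]
    linear_combination S.h z z * hγ - h00

/-- At most two independent vectors and prescribed values: a singular solution. -/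
theorem exists_sing {k : ℕ} (hk : k ≤ 2) (s : Fin k → V)
    (hs : ∀ c : Fin k → K, ∑ i, c i • s i = 0 → ∀ i, c i = 0) (a : Fin k → K) :
    ∃ y, (∀ i, S.h (s i) y = a i) ∧ S.Q y = 0 := by
  obtain ⟨z, hz, hzz⟩ := S.exists_aniso hk s
  exact S.exists_sing_of s hs a hz hzz

theorem exists_sing_two {x w : V} (hx : x ≠ 0) (hw : ∀ c : K, w ≠ c • x) (a b : K) :
    ∃ y, S.h x y = a ∧ S.h w y = b ∧ S.Q y = 0 := by
  obtain ⟨y, hy, hQy⟩ := S.exists_sing le_rfl ![x, w] (fun c hc => by
    rw [Fin.sum_univ_two] at hc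
    simp only [Matrix.cons_val_zero, Matrix.cons_val_one] at hc
    have h1 : c 1 = 0 := by
      by_contra h
      refine hw (-(c 1)⁻¹ * c 0) ?_
      rw [mul_smul, neg_smul, eq_neg_iff_add_eq_zero, add_comm, ← inv_smul_smul₀ h w, ← smul_add, hc,
        smul_zero]
    rw [h1, zero_smul, add_zero, smul_eq_zero] at hc
    exact Fin.forall_fin_two.2 ⟨hc.resolve_right hx, h1⟩) ![a, b]
  exact ⟨y, hy 0, hy 1, hQy⟩

/-- Three vectors `p`, `a`, `y` with `p ⊥ y` singular, not of rank one: an anisotropic vector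
orthogonal to all of them. -/
theorem exists_aniso_three {p a y : V}
    (hi : ∀ c : Fin 3 → K, ∑ i, c i • ![p, a, y] i = 0 → ∀ i, c i = 0)
    (hp : S.Q p = 0) (hy : S.Q y = 0) (hpy : S.h p y = 0)
    (hne : ¬ (S.h p a = 0 ∧ S.h a y = 0)) :
    ∃ z, (∀ i, S.h z (![p, a, y] i) = 0) ∧ S.h z z ≠ 0 := by
  haveI : FiniteDimensional K V := Module.Finite.of_finite
  let φ : V →ₗ[K] (Fin 3 → K) :=
    { toFun := fun x i => S.h x (![p, a, y] i)
      map_add' := fun x z => funext fun i => S.add_left x z (![p, a, y] i)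
      map_smul' := fun c x => funext fun i => S.smul_left c x (![p, a, y] i) }
  set P := LinearMap.ker φ with hPdef
  have hPmem : ∀ {x}, x ∈ P ↔ ∀ i, S.h x (![p, a, y] i) = 0 := fun {x} => by
    rw [hPdef, LinearMap.mem_ker]
    exact funext_iff
  have hP : finrank K V ≤ finrank K P + 3 := by
    show _ ≤ finrank K (LinearMap.ker φ) + 3
    have h1 := LinearMap.finrank_range_add_finrank_ker φ
    have h2 := (LinearMap.range φ).finrank_le
    rw [Module.finrank_fin_fun] at h2
    omega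
  by_contra hcon
  push Not at hcon
  have h0 : ∀ x ∈ P, S.h x x = 0 := fun x hx => hcon x (hPmem.1 hx)
  have hTI : ∀ x ∈ P, ∀ z ∈ P, S.h x z = 0 := by
    have key : ∀ x ∈ P, ∀ z ∈ P, S.h x z + S.τ (S.h x z) = 0 := fun x hx z hz => by
      have h1 := h0 _ (P.add_mem hx hz)
      rw [S.add_left, S.add_right, S.add_right, h0 x hx, h0 z hz, S.herm x z] at h1
      linear_combination h1
    intro x hx z hz
    have h1 := key _ (P.smul_mem S.θ hx) z hz
    rw [S.smul_left, map_mul] at h1
    have h2 : S.ε * S.h x z = 0 := by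
      rw [ε]; linear_combination h1 - S.τ S.θ * key x hx z hz
    exact (mul_eq_zero.1 h2).resolve_left S.ε_ne
  let R : Submodule K V :=
    { carrier := {u | ∀ z ∈ P, S.h u z = 0}
      add_mem' := fun {u v} hu hv z hz => by rw [S.add_left, hu z hz, hv z hz, add_zero]
      zero_mem' := fun z _ => S.zero_left z
      smul_mem' := fun c u hu z hz => by rw [S.smul_left, hu z hz, mul_zero] }
  let L : R → Submodule.dualAnnihilator P := fun u => ⟨
        { toFun := fun z => S.τ (S.h u.1 z)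
          map_add' := fun v w => by rw [S.add_right, map_add]
          map_smul' := fun c z => by rw [S.smul_right, map_mul, S.tau_tau]; rfl },
        (Submodule.mem_dualAnnihilator _).2 fun z hz => by
          show S.τ (S.h u.1 z) = 0
          rw [u.2 z hz, map_zero]⟩
  have hinj : Function.Injective L := by
    intro u v huv
    apply Subtype.ext
    rw [← sub_eq_zero]
    refine S.nondeg _ fun z => ?_
    have h1 := LinearMap.congr_fun (congrArg Subtype.val huv) z
    rw [S.sub_left, sub_eq_zero]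
    exact S.τ.injective h1
  haveI : Finite (Module.Dual K V) := Module.finite_of_finite K
  have h1 := Nat.card_le_card_of_injective L hinj
  rw [Module.natCard_eq_pow_finrank (K := K) (V := R),
    Module.natCard_eq_pow_finrank (K := K) (V := Submodule.dualAnnihilator P),
    Nat.pow_le_pow_iff_right Finite.one_lt_card] at h1
  have h2 := Subspace.finrank_add_finrank_dualAnnihilator_eq P
  have hli : LinearIndependent K ![p, a, y] := Fintype.linearIndependent_iff.2 hi
  have h3 : finrank K (Submodule.span K (Set.range ![p, a, y])) = 3 := by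
    rw [finrank_span_eq_card hli, Fintype.card_fin]
  have hle : Submodule.span K (Set.range ![p, a, y]) ≤ R := by
    rw [Submodule.span_le]
    rintro _ ⟨i, rfl⟩ z hz
    rw [S.herm z, hPmem.1 hz i, map_zero]
  have hPR : P ≤ R := fun x hx z hz => hTI x hx z hz
  have h4 := Submodule.finrank_mono hle
  have h5 := Submodule.finrank_mono hPR
  have h6 := S.dim
  have hR : Submodule.span K (Set.range ![p, a, y]) = R :=
    Submodule.eq_of_le_of_finrank_le hle (by omega)
  have hPspan : P ≤ Submodule.span K {p, y} := by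
    intro x hx
    have hx' := hPR hx
    rw [← hR, Submodule.mem_span_range_iff_exists_fun] at hx'
    obtain ⟨c, hc⟩ := hx'
    rw [Fin.sum_univ_three] at hc
    simp only [Matrix.cons_val_zero, Matrix.cons_val_one, Matrix.cons_val] at hc
    have hxp := hPmem.1 hx 0
    have hxy := hPmem.1 hx 2
    simp only [Matrix.cons_val_zero, Matrix.cons_val] at hxp hxy
    rw [← hc, S.add_left, S.add_left, S.smul_left, S.smul_left, S.smul_left,
      S.h_self_eq_zero.2 hp, S.herm p y, hpy, map_zero, mul_zero, mul_zero, zero_add, add_zero,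
      S.herm p a] at hxp
    rw [← hc, S.add_left, S.add_left, S.smul_left, S.smul_left, S.smul_left,
      S.h_self_eq_zero.2 hy, hpy, mul_zero, mul_zero, zero_add, add_zero] at hxy
    have hc1 : c 1 = 0 := by
      by_contra h
      exact hne ⟨S.τ.injective (by rw [map_zero]; exact (mul_eq_zero.1 hxp).resolve_left h),
        (mul_eq_zero.1 hxy).resolve_left h⟩
    rw [hc1, zero_smul, add_zero] at hc
    exact Submodule.mem_span_pair.2 ⟨c 0, c 2, hc⟩
  have h7 : finrank K (Submodule.span K ({p, y} : Set V)) ≤ 2 := by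
    classical
    have := finrank_span_finset_le_card (R := K) ({p, y} : Finset V)
    rw [Finset.coe_pair] at this
    exact this.trans Finset.card_le_two
  have hPeq : P = Submodule.span K {p, y} := Submodule.eq_of_le_of_finrank_le hPspan (by omega)
  have hpP : p ∈ P := hPeq ▸ Submodule.subset_span (by simp)
  have hyP : y ∈ P := hPeq ▸ Submodule.subset_span (by simp)
  have e1 := hPmem.1 hpP 1
  have e2 := hPmem.1 hyP 1
  simp only [Matrix.cons_val_one, Matrix.cons_val_zero] at e1 e2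
  exact hne ⟨e1, by rw [S.herm y a, e2, map_zero]⟩

theorem indep_three {p x w : V} (hp : p ≠ 0) (hx : ∀ c : K, x ≠ c • p)
    (hw : ∀ c d : K, w ≠ c • p + d • x) :
    ∀ c : Fin 3 → K, ∑ i, c i • ![p, x, w] i = 0 → ∀ i, c i = 0 := by
  intro c hc
  rw [Fin.sum_univ_three] at hc
  simp at hc
  have h2 : c 2 = 0 := by
    by_contra h
    refine hw (-(c 2)⁻¹ * c 0) (-(c 2)⁻¹ * c 1) ?_
    rw [mul_smul, mul_smul, ← smul_add, neg_smul, eq_neg_iff_add_eq_zero, add_comm,
      ← inv_smul_smul₀ h w, ← smul_add, hc, smul_zero]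
  rw [h2, zero_smul, add_zero] at hc
  have h1 : c 1 = 0 := by
    by_contra h
    refine hx (-(c 1)⁻¹ * c 0) ?_
    rw [mul_smul, neg_smul, eq_neg_iff_add_eq_zero, add_comm, ← inv_smul_smul₀ h x, ← smul_add, hc,
      smul_zero]
  rw [h1, zero_smul, add_zero, smul_eq_zero] at hc
  intro i
  fin_cases i
  exacts [hc.resolve_right hp, h1, h2]

theorem exists_sing_three {p x w : V} (hp : p ≠ 0) (hx : ∀ c : K, x ≠ c • p)
    (hw : ∀ c d : K, w ≠ c • p + d • x) (hpQ : S.Q p = 0) (hwQ : S.Q w = 0) (hpw : S.h p w = 0)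
    (a b e : K) (he : S.h p x = 0 ∧ S.h x w = 0 → e ≠ 0) :
    ∃ y, S.h p y = a ∧ S.h x y = b ∧ S.h w y = e ∧ S.Q y = 0 := by
  have hi := indep_three hp hx hw
  by_cases hne : S.h p x = 0 ∧ S.h x w = 0
  · obtain ⟨y0, hy0⟩ := S.exists_val ![p, x, w] hi ![a, b, e]
    have h0 : S.h p y0 = a := hy0 0
    have h1 : S.h x y0 = b := hy0 1
    have h2 : S.h w y0 = e := hy0 2
    have he0 := he hne
    obtain ⟨β, hβ⟩ := S.exists_trace (S.Q y0)
    have hww := S.h_self_eq_zero.2 hwQ
    refine ⟨y0 + (-(β / e)) • w, ?_, ?_, ?_, ?_⟩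
    · rw [S.add_right, S.smul_right, h0, hpw, mul_zero, add_zero]
    · rw [S.add_right, S.smul_right, h1, hne.2, mul_zero, add_zero]
    · rw [S.add_right, S.smul_right, h2, hww, mul_zero, add_zero]
    · rw [← S.h_self_eq_zero, S.add_left, S.add_right, S.add_right, S.smul_left, S.smul_left,
        S.smul_right, S.smul_right, hww, mul_zero, mul_zero, add_zero, h2, S.herm w y0, h2,
        ← S.hQ y0, map_neg, map_div₀, neg_mul, neg_mul, div_mul_cancel₀ _ he0,
        div_mul_cancel₀ _ (fun h => he0 (S.τ.injective (by rw [h, map_zero])))]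
      linear_combination -hβ
  · obtain ⟨z, hz, hzz⟩ := S.exists_aniso_three hi hpQ hwQ hpw hne
    obtain ⟨y, hy, hQy⟩ := S.exists_sing_of ![p, x, w] hi ![a, b, e] hz hzz
    exact ⟨y, hy 0, hy 1, hy 2, hQy⟩

theorem exists_indep (S : Setting F K V) (x w : V) : ∃ y : V, ∀ c d : K, y ≠ c • x + d • w := by
  haveI : FiniteDimensional K V := Module.Finite.of_finite
  by_contra hcon
  push Not at hcon
  have htop : (⊤ : Submodule K V) ≤ Submodule.span K (Set.range ![x, w]) := fun y _ => by
    obtain ⟨c, d, rfl⟩ := hcon y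
    exact add_mem (Submodule.smul_mem _ c (Submodule.subset_span ⟨0, rfl⟩))
      (Submodule.smul_mem _ d (Submodule.subset_span ⟨1, rfl⟩))
  have h1 := Submodule.finrank_mono htop
  rw [finrank_top] at h1
  have h2 : finrank K (Submodule.span K (Set.range ![x, w])) ≤ 2 := by
    simpa [Set.finrank] using finrank_range_le_card (R := K) ![x, w]
  have h4 := S.dim
  omega

/-- Two orthogonal anisotropic vectors of the orthogonal of `a`, `b` give a singular one. -/
theorem sing_perp_of {a b z z' : V} (h1 : S.h z a = 0) (h2 : S.h z b = 0) (hzz : S.h z z ≠ 0)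
    (h1' : S.h z' a = 0) (h2' : S.h z' b = 0) (h3' : S.h z' z = 0) (hzz' : S.h z' z' ≠ 0) :
    ∃ y, S.h a y = 0 ∧ S.h b y = 0 ∧ S.Q y = 0 ∧ y ≠ 0 ∧ ∀ c d : K, y ≠ c • a + d • b := by
  obtain ⟨t, ht⟩ := S.fixed (-(S.h z z) / S.h z' z') (by
    rw [map_div₀, map_neg, ← S.herm, ← S.herm])
  obtain ⟨β, hβ⟩ := S.norm_surj t
  rw [ht] at hβ
  have hyz : S.h (z + β • z') z = S.h z z := by rw [S.add_left, S.smul_left, h3', mul_zero, add_zero]
  refine ⟨z + β • z', ?_, ?_, ?_, fun h => hzz (by rw [← hyz, h, S.zero_left]), fun c d h => hzz ?_⟩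
  · rw [S.herm (z + β • z') a, S.add_left, S.smul_left, h1, h1', mul_zero, add_zero, map_zero]
  · rw [S.herm (z + β • z') b, S.add_left, S.smul_left, h2, h2', mul_zero, add_zero, map_zero]
  · rw [← S.h_self_eq_zero, S.add_left, S.add_right, S.add_right, S.smul_left, S.smul_left,
      S.smul_right, S.smul_right, h3', S.herm z' z, h3', map_zero]
    have h4 : -(S.h z z) / S.h z' z' * S.h z' z' = -(S.h z z) := div_mul_cancel₀ _ hzz'
    linear_combination S.h z' z' * hβ + h4
  · rw [← hyz, h, S.add_left, S.smul_left, S.smul_left, S.herm z a, h1, S.herm z b, h2, map_zero,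
      mul_zero, mul_zero, add_zero]

/-- A singular vector orthogonal to one, outside its line. -/
theorem exists_sing_perp_one (a : V) :
    ∃ y, S.h a y = 0 ∧ S.Q y = 0 ∧ y ≠ 0 ∧ ∀ c : K, y ≠ c • a := by
  obtain ⟨z, hz, hzz⟩ := S.exists_aniso (show 1 ≤ 2 by norm_num) ![a]
  obtain ⟨z', hz', hzz'⟩ := S.exists_aniso le_rfl ![a, z]
  obtain ⟨y, h1, -, h3, h4, h5⟩ :=
    S.sing_perp_of (hz 0) (hz 0) hzz (hz' 0) (hz' 0) (hz' 1) hzz'
  exact ⟨y, h1, h3, h4, fun c h => h5 c 0 (by rw [zero_smul, add_zero]; exact h)⟩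

/-- A singular vector orthogonal to a hyperbolic pair. -/
theorem exists_sing_perp_hyp {a b : V} (ha : S.Q a = 0) (hb : S.Q b = 0) (hab : S.h a b ≠ 0) :
    ∃ y, S.h a y = 0 ∧ S.h b y = 0 ∧ S.Q y = 0 ∧ y ≠ 0 ∧ ∀ c d : K, y ≠ c • a + d • b := by
  obtain ⟨z, hz, hzz⟩ := S.exists_aniso le_rfl ![a, b]
  have hza : S.h z a = 0 := hz 0
  have hzb : S.h z b = 0 := hz 1
  have haa := S.h_self_eq_zero.2 ha
  have hbb := S.h_self_eq_zero.2 hb
  have hba : S.h b a ≠ 0 := fun h => hab (by rw [S.herm b a, h, map_zero])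
  have haz : S.h a z = 0 := by rw [S.herm z a, hza, map_zero]
  have hbz : S.h b z = 0 := by rw [S.herm z b, hzb, map_zero]
  by_contra hcon
  have hall : ∀ x, S.h x a = 0 → S.h x b = 0 → S.h x z = 0 → S.h x x = 0 := fun x h1 h2 h3 =>
    by_contra fun h => hcon (S.sing_perp_of hza hzb hzz h1 h2 h3 h)
  haveI : FiniteDimensional K V := Module.Finite.of_finite
  obtain ⟨x, hxe, hx0⟩ : ∃ x, (∀ i, S.h x (![a, b, z] i) = 0) ∧ x ≠ 0 := by
    let φ : V →ₗ[K] (Fin 3 → K) :=
      { toFun := fun x i => S.h x (![a, b, z] i)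
        map_add' := fun x y => funext fun i => S.add_left x y (![a, b, z] i)
        map_smul' := fun c x => funext fun i => S.smul_left c x (![a, b, z] i) }
    have h1 := LinearMap.finrank_range_add_finrank_ker φ
    have h2 := (LinearMap.range φ).finrank_le
    rw [Module.finrank_fin_fun] at h2
    have h3 := S.dim
    obtain ⟨x, hx, hx0⟩ := Submodule.exists_mem_ne_zero_of_ne_bot (p := LinearMap.ker φ)
      (fun h => by rw [h, finrank_bot] at h1; omega)
    exact ⟨x, fun i => congrFun (LinearMap.mem_ker.1 hx) i, hx0⟩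
  have hxa : S.h x a = 0 := hxe 0
  have hxb : S.h x b = 0 := hxe 1
  have hxz : S.h x z = 0 := hxe 2
  refine hx0 (S.nondeg x fun v => ?_)
  set v' := v - (S.h v b / S.h a b) • a - (S.h v a / S.h b a) • b - (S.h v z / S.h z z) • z with hv'
  have hv1 : S.h v' a = 0 := by
    rw [hv', S.sub_left, S.sub_left, S.sub_left, S.smul_left, S.smul_left, S.smul_left, haa, hza,
      div_mul_cancel₀ _ hba]
    ring
  have hv2 : S.h v' b = 0 := by
    rw [hv', S.sub_left, S.sub_left, S.sub_left, S.smul_left, S.smul_left, S.smul_left, hbb, hzb,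
      div_mul_cancel₀ _ hab]
    ring
  have hv3 : S.h v' z = 0 := by
    rw [hv', S.sub_left, S.sub_left, S.sub_left, S.smul_left, S.smul_left, S.smul_left, haz, hbz,
      div_mul_cancel₀ _ hzz]
    ring
  have hxv : S.h x v' = 0 := by
    have key : ∀ c : K, c * S.h x v' + S.τ (c * S.h x v') = 0 := fun c => by
      have hl : ∀ w, S.h x w = 0 → S.h v' w = 0 → S.h (c • x + v') w = 0 := fun w h1 h2 => by
        rw [S.add_left, S.smul_left, h1, h2, mul_zero, add_zero]
      have h1 := hall (c • x + v') (hl a hxa hv1) (hl b hxb hv2) (hl z hxz hv3)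
      rw [S.add_left, S.add_right, S.add_right, S.smul_left, S.smul_left, S.smul_right,
        S.smul_right, hall x hxa hxb hxz, hall v' hv1 hv2 hv3, S.herm x v'] at h1
      rw [map_mul]
      linear_combination h1
    have h1 := key 1
    have h2 := key S.θ
    rw [one_mul] at h1
    rw [map_mul] at h2
    have h3 : S.ε * S.h x v' = 0 := by rw [ε]; linear_combination h2 - S.τ S.θ * h1
    exact (mul_eq_zero.1 h3).resolve_left S.ε_ne
  rw [hv', S.sub_right, S.sub_right, S.sub_right, S.smul_right, S.smul_right, S.smul_right, hxa,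
    hxb, hxz] at hxv
  simpa using hxv

/-- A singular vector orthogonal to `p` outside the span of `p` and `a`. -/
theorem exists_sing_off {p : V} (hp : p ≠ 0) (hpQ : S.Q p = 0) (a : V) :
    ∃ y, S.h p y = 0 ∧ S.Q y = 0 ∧ ∀ c d : K, y ≠ c • p + d • a := by
  obtain ⟨x, hx, hxx⟩ := S.exists_aniso le_rfl ![p, a]
  have hxp : S.h x p = 0 := hx 0
  have hxa : S.h x a = 0 := hx 1
  obtain ⟨y, hpy, hxy, hyQ⟩ := S.exists_sing_two (w := x) hp (fun c h => hxx (by
    rw [h, S.smul_left, S.smul_right, S.h_self_eq_zero.2 hpQ, mul_zero, mul_zero])) 0 1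
  refine ⟨y, hpy, hyQ, fun c d h => ?_⟩
  rw [h, S.add_right, S.smul_right, S.smul_right, hxp, hxa, mul_zero, mul_zero, add_zero] at hxy
  exact zero_ne_one hxy

theorem B_inv {g : V ≃ₗ[F] V} (hg : g ∈ S.M) (x y : V) : S.B (g⁻¹ x) y = S.B x (g y) := by
  show Algebra.trace F K _ = Algebra.trace F K _
  rw [← S.iso g hg, apply_inv_self']

theorem B_iso {g : V ≃ₗ[F] V} (hg : g ∈ S.M) (x y : V) : S.B (g x) (g y) = S.B x y := S.iso g hg x y

/-- All Siegel maps `sfun u (t • w)`. -/
def InW (u w : V) : Prop :=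
  S.Q u = 0 ∧ S.B w u = 0 ∧ ∀ t : F, ∃ g ∈ S.M, ∀ z, g z = sfun S.B S.Q u (t • w) z

theorem inW_smul {u w : V} (h : S.InW u w) (c : F) : S.InW u (c • w) :=
  ⟨h.1, by rw [S.B_smul_left, h.2.1, mul_zero], fun t => by rw [smul_smul]; exact h.2.2 _⟩

theorem inW_add {u w w' : V} (h : S.InW u w) (h' : S.InW u w') : S.InW u (w + w') := by
  refine ⟨h.1, by rw [S.B_add_left, h.2.1, h'.2.1, add_zero], fun t => ?_⟩
  obtain ⟨g, hg, hgz⟩ := h.2.2 t
  obtain ⟨g', hg', hgz'⟩ := h'.2.2 t
  refine ⟨g * g', S.M.mul_mem hg hg', fun z => ?_⟩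
  show g (g' z) = _
  have hwu : S.B w u = 0 := h.2.1
  have huw : S.B u w = 0 := by rw [S.B_comm]; exact hwu
  have hw'u : S.B w' u = 0 := h'.2.1
  have huu : S.B u u = 0 := by
    have h1 := S.Q_add u u
    have h2 := h.1
    rw [← two_smul F u, S.Q_smul, h2, mul_zero, add_zero, zero_add] at h1
    exact h1.symm
  rw [hgz, hgz', sfun, sfun, sfun]
  simp only [S.B_add_left, S.B_smul_left, S.B_add_right, S.B_smul_right, S.Q_smul, S.Q_add, hwu, huw,
    hw'u, huu, S.B_comm w w', mul_zero, add_zero, smul_add]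
  module

theorem inW_map {g : V ≃ₗ[F] V} (hg : g ∈ S.M) {u w : V} (h : S.InW u w) :
    S.InW (g u) (g w) := by
  refine ⟨by rw [S.isoQ g hg, h.1], by rw [S.B_iso hg, h.2.1], fun t => ?_⟩
  obtain ⟨k, hk, hkz⟩ := h.2.2 t
  refine ⟨g * k * g⁻¹, S.M.mul_mem (S.M.mul_mem hg hk) (S.M.inv_mem hg), fun z => ?_⟩
  show g (k (g⁻¹ z)) = _
  rw [hkz, sfun, sfun, map_add, map_add, map_smul, map_smul, apply_inv_self', S.B_inv hg, S.B_inv hg,
    map_smul, ← map_smul g t w, S.isoQ g hg]

theorem inW_symm {u w : V} (h : S.InW u w) (hw : S.Q w = 0) : S.InW w u := by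
  refine ⟨hw, by rw [S.B_comm]; exact h.2.1, fun t => ?_⟩
  obtain ⟨g, hg, hgz⟩ := h.2.2 (-t)
  refine ⟨g, hg, fun z => ?_⟩
  rw [hgz, sfun, sfun, S.Q_smul, S.Q_smul, hw, h.1, S.B_smul_right, S.B_smul_right]
  module

theorem inW_line {p : V} (hp : S.Q p = 0) (c : K) : S.InW p (c • p) := by
  have hpp : S.h p p = 0 := S.h_self_eq_zero.2 hp
  have hθ : S.InW p (S.θ • p) := by
    refine ⟨hp, S.B_zero_of_h (by rw [S.smul_left, hpp, mul_zero]), fun t => ?_⟩
    obtain ⟨g, hg, hgz⟩ := S.root_mem p t hp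
    refine ⟨g, hg, fun z => ?_⟩
    have hQ : S.Q (t • S.θ • p) = 0 := by
      rw [← S.h_self_eq_zero, ← algebraMap_smul K t (S.θ • p), S.smul_left, S.smul_left, S.smul_right,
        S.smul_right, hpp]
      ring
    rw [hgz, sfun, hQ, zero_mul, sub_zero, add_assoc, ← algebraMap_smul K (S.B z p), ← algebraMap_smul K
      (-S.B z (t • S.θ • p)), ← algebraMap_smul K t (S.θ • p), smul_smul, smul_smul, ← add_smul,
      map_neg, S.B_eq, S.B_eq]
    congr 2
    rw [S.smul_right, S.smul_right, map_mul S.τ (S.τ _), map_mul S.τ (S.τ _), S.tau_tau, S.tau_tau,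
      AlgEquiv.commutes]
    ring
  have hone : S.InW p p := by
    refine ⟨hp, S.B_zero_of_h hpp, fun t => ⟨1, S.M.one_mem, fun z => ?_⟩⟩
    rw [sfun, S.Q_smul, hp, S.B_smul_right]
    show z = _
    module
  obtain ⟨a, b, rfl⟩ := S.exists_decomp c
  rw [add_smul, mul_smul, algebraMap_smul, algebraMap_smul]
  exact S.inW_add (S.inW_smul hone a) (S.inW_smul hθ b)

theorem inW_step {p w y : V} (hw : S.InW p w) (hy : S.Q y = 0) (hpy : S.h p y = 0) {t : F}
    (ht : t ≠ 0) (hwy : S.ε * S.h w y = algebraMap F K t) : S.InW p y := by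
  obtain ⟨g, hg, hgz⟩ := S.root_mem y 1 hy
  have hgp : g p = p := by rw [hgz, hpy, mul_zero, zero_smul, add_zero]
  have hgw : g w = w + t • y := by
    rw [hgz, map_one, one_mul, ← algebraMap_smul K t y, ← hwy]; rfl
  have h1 := S.inW_map hg hw
  rw [hgp, hgw] at h1
  have h2 := S.inW_smul (S.inW_add h1 (S.inW_smul hw (-1))) t⁻¹
  rwa [neg_one_smul, add_neg_cancel_comm, inv_smul_smul₀ ht] at h2

theorem inW_reach {p a y : V} (hp : p ≠ 0) (ha : S.InW p a) (hay : ∀ c : K, a ≠ c • p)
    (hy : S.Q y = 0) (hpy : S.h p y = 0) (hind : ∀ c d : K, y ≠ c • p + d • a) : S.InW p y := by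
  obtain ⟨y', h1, h2, h3, h4⟩ := S.exists_sing_three hp hay hind ha.1 hy hpy 0 S.ε⁻¹ S.ε⁻¹
    fun _ => inv_ne_zero S.ε_ne
  have hy' : S.InW p y' := S.inW_step ha h4 h1 one_ne_zero
    (by rw [h2, mul_inv_cancel₀ S.ε_ne, map_one])
  refine S.inW_step hy' hy hpy (neg_ne_zero.2 one_ne_zero) ?_
  rw [S.herm y y', h3, map_inv₀, S.tau_ε, map_neg, map_one]
  have := S.ε_ne
  field_simp

/-- The orthogonal of a singular point lies in its space. -/
def Full (p : V) : Prop := ∀ y, S.h p y = 0 → S.InW p y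

theorem full_of {p a : V} (hp : p ≠ 0) (hpQ : S.Q p = 0) (ha : S.InW p a)
    (hoff : ∀ c : K, a ≠ c • p) : S.Full p := by
  have hsing : ∀ y, S.Q y = 0 → S.h p y = 0 → S.InW p y := by
    intro y hy hpy
    by_cases hline : ∀ c : K, y ≠ c • p
    swap
    · push Not at hline
      obtain ⟨c, rfl⟩ := hline
      exact S.inW_line hpQ c
    by_cases hind : ∀ c d : K, y ≠ c • p + d • a
    · exact S.inW_reach hp ha hoff hy hpy hind
    push Not at hind
    obtain ⟨c0, d0, hy0⟩ := hind
    obtain ⟨q, hpq, hqQ, hq⟩ := S.exists_sing_off hp hpQ a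
    have hqoff : ∀ c : K, q ≠ c • p := fun c h => hq c 0 (by rw [zero_smul, add_zero]; exact h)
    refine S.inW_reach hp (S.inW_reach hp ha hoff hqQ hpq hq) hqoff hy hpy fun c d h => ?_
    by_cases hd : d = 0
    · exact hline c (by rw [h, hd, zero_smul, add_zero])
    refine hq (d⁻¹ * (c0 - c)) (d⁻¹ * d0) ?_
    rw [mul_smul, mul_smul, ← smul_add, sub_smul, sub_add_eq_add_sub, ← hy0, h, add_sub_cancel_left,
      inv_smul_smul₀ hd]
  intro y hpy
  by_cases hline : ∀ c : K, y ≠ c • p
  swap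
  · push Not at hline
    obtain ⟨c, rfl⟩ := hline
    exact S.inW_line hpQ c
  obtain ⟨z, hpz, hyz, hz⟩ := S.exists_sing_two hp hline 0 1
  obtain ⟨α, hα⟩ := S.exists_trace (S.Q y)
  have h1 : S.InW p (α • z) := hsing _
    (by rw [← S.h_self_eq_zero, S.smul_left, S.smul_right, S.h_self_eq_zero.2 hz, mul_zero, mul_zero])
    (by rw [S.smul_right, hpz, mul_zero])
  have h2 : S.InW p (y - α • z) := hsing _
    (by
      rw [← S.h_self_eq_zero, S.sub_left, S.sub_right, S.sub_right, S.smul_left, S.smul_left,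
        S.smul_right, S.smul_right, S.h_self_eq_zero.2 hz, S.herm y z, hyz, map_one, ← S.hQ y]
      linear_combination -hα)
    (by rw [S.sub_right, hpy, S.smul_right, hpz, mul_zero, sub_zero])
  have h3 := S.inW_add h1 h2
  rwa [add_sub_cancel] at h3

theorem full_spread {p q : V} (hp : S.Full p) (hp0 : p ≠ 0) (hq0 : q ≠ 0) (hq : S.Q q = 0)
    (hpQ : S.Q p = 0) : S.Full q := by
  have step : ∀ {p q : V}, S.Full p → S.Q p = 0 → p ≠ 0 → S.Q q = 0 → q ≠ 0 → S.h p q = 0 →
      (∀ c : K, q ≠ c • p) → S.Full q := by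
    intro p q hp hpQ hp0 hq hq0 hpq hoff
    refine S.full_of hq0 hq (S.inW_symm (hp q hpq) hq) fun c h => ?_
    by_cases hc : c = 0
    · exact hp0 (by rw [h, hc, zero_smul])
    exact hoff c⁻¹ (by rw [h, inv_smul_smul₀ hc])
  by_cases hpar : ∃ c : K, q = c • p
  · obtain ⟨c, rfl⟩ := hpar
    obtain ⟨y, hpy, hyQ, hy0, hy⟩ := S.exists_sing_perp_one p
    refine step (step hp hpQ hp0 hyQ hy0 hpy hy) hyQ hy0 hq hq0
      (by rw [S.herm, S.smul_left, hpy, mul_zero, map_zero]) fun d h => ?_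
    have hd : d ≠ 0 := fun hd => hq0 (by rw [h, hd, zero_smul])
    exact hy (d⁻¹ * c) (by rw [mul_smul, h, inv_smul_smul₀ hd])
  push Not at hpar
  by_cases hpq : S.h p q = 0
  · exact step hp hpQ hp0 hq hq0 hpq hpar
  obtain ⟨y, hpy, hqy, hyQ, hy0, hy⟩ := S.exists_sing_perp_hyp hpQ hq hpq
  refine step (step hp hpQ hp0 hyQ hy0 hpy fun c h => hy c 0 (by rw [zero_smul, add_zero]; exact h))
    hyQ hy0 hq hq0 (by rw [S.herm, hqy, map_zero]) fun c h => ?_
  by_cases hc : c = 0
  · exact hq0 (by rw [h, hc, zero_smul])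
  exact hy 0 c⁻¹ (by rw [h, inv_smul_smul₀ hc, zero_smul, zero_add])

/-- **Conclusion.** Every Siegel transformation lies in the group. -/
theorem sfun_mem (hnot : ∃ g ∈ S.M, ¬ IsSemi F K g) (u w : V) (hu : S.Q u = 0) (hwu : S.B w u = 0) :
    ∃ g ∈ S.M, ∀ z, g z = sfun S.B S.Q u w z := by
  by_cases hu0 : u = 0
  · refine ⟨1, S.M.one_mem, fun z => ?_⟩
    rw [sfun, hu0, smul_zero, add_zero, S.B_zero_of_h (S.zero_right z), zero_smul, add_zero]
    rfl
  -- some image of a line is not a line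
  obtain ⟨p0, hp0, hp0Q, a0, ha0, ha0off⟩ :
      ∃ p : V, p ≠ 0 ∧ S.Q p = 0 ∧ ∃ a, S.InW p a ∧ ∀ c : K, a ≠ c • p := by
    by_contra hcon
    push Not at hcon
    obtain ⟨g, hg, hns⟩ := hnot
    have hline : ∀ h ∈ S.M, ∀ e : V, S.Q e = 0 → e ≠ 0 → ∀ c : K, ∃ d : K, h (c • e) = d • h e :=
      fun h hh e hee he c => hcon (h e) (fun h0 => he (h.map_eq_zero_iff.1 h0))
        (by rw [S.isoQ h hh, hee]) _ (S.inW_map hh (S.inW_line hee c))
    have hsame : ∀ e1 e2 : V, S.Q e1 = 0 → e1 ≠ 0 → S.Q e2 = 0 → e2 ≠ 0 → S.h e1 e2 = 0 →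
        (∀ c : K, e2 ≠ c • e1) → ∀ φ1 φ2 : K, g (S.θ • e1) = φ1 • g e1 →
        g (S.θ • e2) = φ2 • g e2 → φ1 = φ2 := by
      intro e1 e2 h11 hne1 h22 hne2 h12 hind φ1 φ2 hφ1 hφ2
      have hind' : ∀ d : K, g e2 ≠ d • g e1 := by
        intro d hd
        obtain ⟨c, hc⟩ := hline g⁻¹ (S.M.inv_mem hg) (g e1) (by rw [S.isoQ g hg, h11])
          (fun h0 => hne1 (g.map_eq_zero_iff.1 h0)) d
        rw [← hd, inv_apply_self, inv_apply_self] at hc
        exact hind c hc
      obtain ⟨φ3, hφ3⟩ := hline g hg (e1 + e2)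
        (by rw [S.Q_add, h11, h22, S.B_zero_of_h h12]; ring) (fun h0 => by
          refine hind (-1) ?_
          rw [neg_one_smul, eq_neg_iff_add_eq_zero, add_comm]; exact h0) S.θ
      rw [smul_add, map_add, map_add, hφ1, hφ2, smul_add] at hφ3
      have h5 : (φ2 - φ3) • g e2 = (φ3 - φ1) • g e1 := by
        rw [sub_smul, sub_smul, sub_eq_sub_iff_add_eq_add, add_comm, hφ3, add_comm]
      have h6 : φ2 = φ3 := by
        by_contra h7
        apply hind' ((φ2 - φ3)⁻¹ * (φ3 - φ1))
        rw [mul_smul, ← h5, inv_smul_smul₀ (sub_ne_zero.2 h7)]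
      rw [h6, sub_self, zero_smul, eq_comm, smul_eq_zero] at h5
      rw [h6, (sub_eq_zero.1 (h5.resolve_right fun h0 => hne1 (g.map_eq_zero_iff.1 h0)))]
    obtain ⟨e0, -, he00, he0, -⟩ := S.exists_sing_perp_one 0
    obtain ⟨φ, hφ⟩ := hline g hg e0 he00 he0 S.θ
    have hall : ∀ e : V, S.Q e = 0 → g (S.θ • e) = φ • g e := by
      intro e hee
      by_cases he : e = 0
      · simp [he]
      obtain ⟨φe, hφe⟩ := hline g hg e hee he S.θ
      by_cases hpar : ∃ c : K, e = c • e0
      · obtain ⟨c, rfl⟩ := hpar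
        obtain ⟨y, hy1, hyy, hy0, hy⟩ := S.exists_sing_perp_one e0
        obtain ⟨φy, hφy⟩ := hline g hg y hyy hy0 S.θ
        rw [hφe, hsame e0 y he00 he0 hyy hy0 hy1 hy φ φy hφ hφy,
          ← hsame _ y hee he hyy hy0 (by rw [S.smul_left, hy1, mul_zero])
            (fun d h => hy (d * c) (by rw [mul_smul]; exact h)) φe φy hφe hφy]
      push Not at hpar
      by_cases h0e : S.h e0 e = 0
      · rw [hφe, hsame e0 e he00 he0 hee he h0e hpar φ φe hφ hφe]
      obtain ⟨y, hy1, hy2, hyy, hy0, hy⟩ := S.exists_sing_perp_hyp he00 hee h0e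
      obtain ⟨φy, hφy⟩ := hline g hg y hyy hy0 S.θ
      rw [hφe, hsame e0 y he00 he0 hyy hy0 hy1
          (fun c h => hy c 0 (by rw [zero_smul, add_zero]; exact h)) φ φy hφ hφy,
        ← hsame e y hee he hyy hy0 hy2
          (fun c h => hy 0 c (by rw [zero_smul, zero_add]; exact h)) φe φy hφe hφy]
    have hevery : ∀ v : V, g (S.θ • v) = φ • g v := by
      intro v
      by_cases hv : S.Q v = 0
      · exact hall v hv
      obtain ⟨x, hx⟩ := S.exists_indep v v
      obtain ⟨z, hvz, -, hz⟩ := S.exists_sing_two (x := v) (w := x)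
        (fun h => hv (by rw [← S.h_self_eq_zero, h, S.zero_left]))
        (fun c h => hx c 0 (by rw [zero_smul, add_zero]; exact h)) 1 0
      obtain ⟨α, hα⟩ := S.exists_trace (S.Q v)
      have h1 := hall (α • z)
        (by rw [← S.h_self_eq_zero, S.smul_left, S.smul_right, S.h_self_eq_zero.2 hz, mul_zero, mul_zero])
      have h2 := hall (v - α • z) (by
        rw [← S.h_self_eq_zero, S.sub_left, S.sub_right, S.sub_right, S.smul_left, S.smul_left,
          S.smul_right, S.smul_right, S.h_self_eq_zero.2 hz, S.herm v z, hvz, map_one, ← S.hQ v]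
        linear_combination -hα)
      rw [smul_sub, map_sub, map_sub, smul_sub, h1] at h2
      exact sub_left_inj.1 h2
    refine hns fun c => ?_
    obtain ⟨a, b, rfl⟩ := S.exists_decomp c
    exact ⟨algebraMap F K a + algebraMap F K b * φ, fun v => by
      rw [add_smul, mul_smul, algebraMap_smul, algebraMap_smul, map_add, map_smul, map_smul, hevery,
        add_smul, mul_smul, algebraMap_smul, algebraMap_smul]⟩
  have hfull : ∀ q : V, q ≠ 0 → S.Q q = 0 → S.Full q := fun q hq0 hq =>
    S.full_spread (S.full_of hp0 hp0Q ha0 ha0off) hp0 hq0 hq hp0Q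
  -- a vector outside the orthogonal over `K`
  obtain ⟨w0, hw0, hpw0⟩ : ∃ w0, S.InW u w0 ∧ S.h u w0 ≠ 0 := by
    obtain ⟨y, huy, hyQ, hy0, hyoff⟩ := S.exists_sing_perp_one u
    obtain ⟨α, hα⟩ := S.exists_trace (1 : F)
    obtain ⟨b, hub, hyb, hbQ⟩ := S.exists_sing_two hu0 hyoff 0 α
    have hboff : ∀ c d : K, b ≠ c • u + d • y := by
      intro c d h
      have h1 := hyb
      rw [h, S.add_right, S.smul_right, S.smul_right, S.herm u y, huy, map_zero, mul_zero,
        S.h_self_eq_zero.2 hyQ, mul_zero, add_zero] at h1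
      rw [← h1, map_zero, add_zero, map_one] at hα
      exact zero_ne_one hα
    have hα0 : α ≠ 0 := fun h0 => by
      rw [h0, map_zero, add_zero, map_one] at hα
      exact zero_ne_one hα
    have hbu : ∀ c : K, b ≠ c • u := fun c h => hboff c 0 (by rw [zero_smul, add_zero]; exact h)
    have hyub : ∀ c d : K, y ≠ c • u + d • b := fun c d h => by
      rcases eq_or_ne d 0 with rfl | hd
      · exact hyoff c (by rw [h, zero_smul, add_zero])
      · refine hboff (-(d⁻¹ * c)) d⁻¹ ?_
        rw [h, smul_add, smul_smul, smul_smul, inv_mul_cancel₀ hd, one_smul, neg_smul,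
          neg_add_cancel_left]
    obtain ⟨a, hua, hba, hya, haQ⟩ := S.exists_sing_three hu0 hbu hyub hu hyQ huy S.ε 0 0
      fun h => absurd (by rw [← hyb, S.herm b y, h.2, map_zero]) hα0
    have hb0 : b ≠ 0 := fun h => hboff 0 0 (by rw [h]; simp)
    obtain ⟨g, hg, hgz⟩ := (hfull b hb0 hbQ a hba).2.2 1
    have hBua : S.B u a = 0 := (algebraMap F K).injective (by
      rw [S.B_eq, hua, S.tau_ε, map_zero, add_neg_cancel])
    have hgu : g u = u := by
      rw [hgz, sfun, one_smul, hBua, S.B_zero_of_h hub]; simp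
    have hgy : g y = y + a := by
      have hByb : S.B y b = 1 := (algebraMap F K).injective (by rw [S.B_eq, hyb, hα])
      rw [hgz, sfun, one_smul, hByb, S.B_zero_of_h hya, haQ]; simp
    have h1 := S.inW_map hg (hfull u hu0 hu y huy)
    rw [hgu, hgy] at h1
    exact ⟨_, h1, by rw [S.add_right, huy, hua, zero_add]; exact S.ε_ne⟩
  have key : ∀ w, S.B w u = 0 → S.InW u w := by
    intro w hw
    have hs : ∀ v, S.B v u = 0 → S.τ (S.h u v) = - S.h u v := fun v hv => by
      rw [S.B_comm] at hv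
      have h1 := S.B_eq u v
      rw [hv, map_zero] at h1
      linear_combination -h1
    obtain ⟨t, ht⟩ := S.fixed (S.h u w / S.h u w0) (by
      rw [map_div₀, hs w hw, hs w0 hw0.2.1, neg_div_neg_eq])
    have h1 : S.h u (w - t • w0) = 0 := by
      rw [S.sub_right, ← algebraMap_smul K t w0, S.smul_right, AlgEquiv.commutes, ht,
        div_mul_cancel₀ _ hpw0, sub_self]
    have h2 := S.inW_add (hfull u hu0 hu _ h1) (S.inW_smul hw0 t)
    rwa [sub_add_cancel] at h2
  obtain ⟨g, hg, hgz⟩ := (key w hwu).2.2 1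
  exact ⟨g, hg, fun z => by rw [hgz, one_smul]⟩

end Setting

end Cfsg.Agent.Lib.OmegaTen.OrthHerm2
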