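import Cfsg.Agent.Lib.Subspaces.OrthSingular

/-!
Overgroups in `Ω` of the stabiliser of a non-degenerate subspace `W` of a quadratic space given by
a function (any characteristic).
-/

set_option autoImplicit false

namespace Cfsg.Agent.Lib.OmegaTen.OrthNondeg

open Matrix Cfsg.Agent.Lib.Subspaces.Transvection Cfsg.Agent.Lib.Subspaces.FormVec
  Cfsg.Agent.Lib.Subspaces.OrthForm Cfsg.Agent.Lib.Subspaces.OrthLines
  Cfsg.Agent.Lib.Subspaces.OmegaGL Cfsg.Agent.Lib.Subspaces.OrthSingular
open scoped commutatorElement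

variable {ι : Type} [Fintype ι] [DecidableEq ι] {F : Type*} [Field F] {Q : (ι → F) → F}

local notation "B" => QuadraticMap.polar Q

/-- The polar orthogonal of a subspace. -/
def perpQ (hQ : Cfsg.Geo.IsNondegenerateQuadraticForm Q) (W : Submodule F (ι → F)) :
    Submodule F (ι → F) where
  carrier := {x | ∀ w ∈ W, B x w = 0}
  add_mem' := fun {a b} ha hb w hw => by
    rw [hQ.polar_bilinear.add_left, ha w hw, hb w hw, add_zero]
  zero_mem' := fun w _ => form_zero_left (bil hQ) w
  smul_mem' := fun c a ha w hw => by rw [hQ.polar_bilinear.smul_left, ha w hw, mul_zero]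

variable {hQ : Cfsg.Geo.IsNondegenerateQuadraticForm Q}

theorem finrank_perpQ_ge (W : Submodule F (ι → F)) :
    Fintype.card ι ≤ Module.finrank F W + Module.finrank F (perpQ hQ W) := by
  obtain ⟨b⟩ : Nonempty (Module.Basis (Fin (Module.finrank F W)) F W) := ⟨Module.finBasis F W⟩
  by_contra hlt
  obtain ⟨z, hz, hzb⟩ := exists_common_zero_not_mem (perpQ hQ W)
    (fun i => formVec B (b i : ι → F)) (by omega)
  refine hz fun w hw => perp_span' hQ hzb w ?_
  have h3 := congrArg (fun x : W => (x : ι → F)) (b.sum_repr ⟨w, hw⟩)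
  simp only [Submodule.coe_sum, Submodule.coe_smul] at h3
  rw [← h3]
  exact Submodule.sum_mem _ fun i _ => Submodule.smul_mem _ _ (Submodule.subset_span ⟨i, rfl⟩)

theorem perpQ_perpQ [Finite F] (W : Submodule F (ι → F)) : perpQ hQ (perpQ hQ W) = W := by
  refine le_antisymm (fun z hz => ?_) fun w hw u hu => ?_
  · by_contra hzW
    obtain ⟨t, ht, htz⟩ := dual hQ hzW
    exact one_ne_zero (htz.symm.trans (by rw [B_comm]; exact hz t ht))
  · rw [B_comm]; exact hu w hw

theorem inf_perp_ge (U V : Submodule F (ι → F)) :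
    Module.finrank F U ≤ Module.finrank F ↥(U ⊓ perpQ hQ V) + Module.finrank F V := by
  have h1 := Submodule.finrank_sup_add_finrank_inf_eq U (perpQ hQ V)
  have h2 : Module.finrank F ↥(U ⊔ perpQ hQ V) ≤ Fintype.card ι :=
    le_trans (Submodule.finrank_le _) (le_of_eq (Module.finrank_fintype_fun_eq_card F))
  have h3 := finrank_perpQ_ge (hQ := hQ) V
  omega

theorem exists_split {W : Submodule F (ι → F)} (hW : Cfsg.Geo.IsNondegenerateOn B W) (x : ι → F) :
    ∃ w ∈ W, x - w ∈ perpQ hQ W := by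
  have hbot : W ⊓ perpQ hQ W = ⊥ := by
    rw [eq_bot_iff]
    rintro y ⟨hy, hy'⟩
    rw [Submodule.mem_bot]
    by_contra hy0
    obtain ⟨-, z, hz, hyz⟩ := hW y hy hy0
    exact hyz (hy' z hz)
  have htop : W ⊔ perpQ hQ W = ⊤ := by
    apply Submodule.eq_top_of_finrank_eq
    have h1 := Submodule.finrank_sup_add_finrank_inf_eq W (perpQ hQ W)
    rw [hbot, finrank_bot, add_zero] at h1
    refine le_antisymm (Submodule.finrank_le _) ?_
    rw [h1, Module.finrank_fintype_fun_eq_card]
    exact finrank_perpQ_ge W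
  obtain ⟨w, hw, r, hr, rfl⟩ := Submodule.mem_sup.mp (htop ▸ Submodule.mem_top (x := x))
  exact ⟨w, hw, by rwa [add_sub_cancel_left]⟩

theorem finrank_add_perpQ {W : Submodule F (ι → F)} (hW : Cfsg.Geo.IsNondegenerateOn B W) :
    Module.finrank F W + Module.finrank F (perpQ hQ W) = Fintype.card ι := by
  refine le_antisymm ?_ (finrank_perpQ_ge W)
  have hbot : W ⊓ perpQ hQ W = ⊥ := by
    rw [eq_bot_iff]
    rintro y ⟨hy, hy'⟩
    rw [Submodule.mem_bot]
    by_contra hy0
    obtain ⟨-, z, hz, hyz⟩ := hW y hy hy0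
    exact hyz (hy' z hz)
  have h1 := Submodule.finrank_sup_add_finrank_inf_eq W (perpQ hQ W)
  rw [hbot, finrank_bot, add_zero] at h1
  rw [← h1, ← Module.finrank_fintype_fun_eq_card F]
  exact Submodule.finrank_le _

theorem perpQ_nondeg {W : Submodule F (ι → F)}
    (hW : Cfsg.Geo.IsNondegenerateOn B W) : Cfsg.Geo.IsNondegenerateOn B (perpQ hQ W) := by
  intro u hu hu0
  obtain ⟨-, y, hy⟩ := hQ.nondegenerate u hu0
  obtain ⟨w, hw, hyw⟩ := exists_split (hQ := hQ) hW y
  have : B u (y - w) = B u y := by rw [sub_right hQ, hu w hw, sub_zero]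
  exact ⟨⟨y - w, hyw, by rw [B_comm, this]; exact hy⟩, ⟨y - w, hyw, by rw [this]; exact hy⟩⟩

/-- A singular non-zero vector in a subspace of dimension at least three. -/
theorem exists_singular_in [Finite F] (hQ : Cfsg.Geo.IsNondegenerateQuadraticForm Q)
    {S : Submodule F (ι → F)} (hS : 3 ≤ Module.finrank F S) : ∃ v ∈ S, v ≠ 0 ∧ Q v = 0 := by
  let P : QuadraticForm F S := (qf hQ).comp S.subtype
  have hP : ∀ x : S, P x = Q (x : ι → F) := fun x => rfl
  by_cases hnd : Cfsg.Agent.Lib.Forms.Nondeg P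
  · obtain ⟨e, he0, he⟩ := Cfsg.Agent.Lib.OrthOmega.exists_singular hnd hS
    exact ⟨e, e.2, fun h => he0 (Subtype.ext h), by rwa [hP] at he⟩
  simp only [Cfsg.Agent.Lib.Forms.Nondeg, not_forall] at hnd
  obtain ⟨r, hr, hr0⟩ := hnd
  have hr0' : (r : ι → F) ≠ 0 := fun h => hr0 (Subtype.ext h)
  have hpol : ∀ y : S, B (r : ι → F) (y : ι → F) = 0 := fun y => by
    simpa [QuadraticMap.polar, hP] using hr y
  by_cases hQr : Q (r : ι → F) = 0
  · exact ⟨r, r.2, hr0', hQr⟩
  have h2 : (2 : F) = 0 := by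
    have := hpol r
    rw [B_self hQ] at this
    exact (mul_eq_zero.mp this).resolve_right hQr
  obtain ⟨v, hv, hvr⟩ : ∃ v ∈ S, v ∉ Submodule.span F {(r : ι → F)} := by
    by_contra h
    push Not at h
    have := Submodule.finrank_mono (show S ≤ Submodule.span F {(r : ι → F)} from h)
    rw [finrank_span_singleton hr0'] at this
    omega
  have : Fintype F := Fintype.ofFinite F
  have hc : ringChar F = 2 := by
    have : CharP F 2 := CharTwo.of_one_ne_zero_of_two_eq_zero one_ne_zero h2
    exact ringChar.eq F 2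
  obtain ⟨a, ha⟩ := FiniteField.isSquare_of_char_two hc (-Q v / Q (r : ι → F))
  refine ⟨v + a • (r : ι → F), S.add_mem hv (S.smul_mem _ r.2), fun h => hvr ?_, ?_⟩
  · rw [eq_neg_of_add_eq_zero_left h]
    exact Submodule.neg_mem _ (Submodule.smul_mem _ _ (Submodule.mem_span_singleton_self _))
  · rw [Q_add_smul hQ, B_comm v, hpol ⟨v, hv⟩, mul_zero, add_zero, pow_two, ← ha,
      div_mul_cancel₀ _ hQr, add_neg_cancel]

/-- A singular vector of `S` outside `V`. -/
theorem exists_singular_avoid [Finite F] (hQ : Cfsg.Geo.IsNondegenerateQuadraticForm Q)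
    {S V : Submodule F (ι → F)} (h : Module.finrank F V + 3 ≤ Module.finrank F S) :
    ∃ v ∈ S, v ∉ V ∧ Q v = 0 := by
  obtain ⟨C, hC⟩ := Submodule.exists_isCompl (V.comap S.subtype)
  have h1 := Submodule.finrank_add_eq_of_isCompl hC
  have h2 : Module.finrank F ↥(V.comap S.subtype) ≤ Module.finrank F V := by
    rw [← Submodule.finrank_map_subtype_eq]
    exact Submodule.finrank_mono (Submodule.map_comap_le _ _)
  obtain ⟨v, hv, hv0, hvQ⟩ := exists_singular_in hQ (S := C.map S.subtype)
    (by rw [Submodule.finrank_map_subtype_eq]; omega)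
  obtain ⟨v', hv', rfl⟩ := hv
  refine ⟨(v' : ι → F), v'.2, fun hvV => hv0 ?_, hvQ⟩
  have : v' ∈ V.comap S.subtype ⊓ C := ⟨hvV, hv'⟩
  rw [hC.inf_eq_bot, Submodule.mem_bot] at this
  simp [this]

/-- The dual vector inside a non-degenerate subspace. -/
theorem dual_in [Finite F] (hQ : Cfsg.Geo.IsNondegenerateQuadraticForm Q)
    {U : Submodule F (ι → F)} (hU : Cfsg.Geo.IsNondegenerateOn B U) {V : Submodule F (ι → F)}
    (hVU : V ≤ U) {z : ι → F} (hz : z ∈ U) (hzV : z ∉ V) :
    ∃ t ∈ U, (∀ s ∈ V, B t s = 0) ∧ B t z = 1 := by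
  obtain ⟨t, ht, htz⟩ := dual hQ hzV
  obtain ⟨u, hu, htu⟩ := exists_split (hQ := hQ) hU t
  have key : ∀ s ∈ U, B u s = B t s := fun s hs => by
    have := htu s hs
    rw [form_sub_left (bil hQ), sub_eq_zero] at this
    exact this.symm
  exact ⟨u, hu, fun s hs => by rw [key s (hVU hs)]; exact ht s hs, by rw [key z hz, htz]⟩

theorem rad_le_one [Finite F] (hQ : Cfsg.Geo.IsNondegenerateQuadraticForm Q)
    {U V : Submodule F (ι → F)}
    (hVd : Module.finrank F V ≤ 2) (hVr : Module.finrank F V ≤ 1 ∨ ∃ a ∈ V, ∃ b ∈ V, B a b ≠ 0) :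
    Module.finrank F ↥(V ⊓ (U ⊓ perpQ hQ V)) ≤ 1 := by
  rcases hVr with h | ⟨a, ha, b, hb', hab⟩
  · exact le_trans (Submodule.finrank_mono inf_le_left) h
  · have hlt : V ⊓ (U ⊓ perpQ hQ V) < V := lt_of_le_of_ne inf_le_left fun he => hab
      (((inf_eq_left.mp he) ha).2 b hb')
    have := Submodule.finrank_lt_finrank_of_lt hlt
    omega

/-- A vector of `U` orthogonal to a small `V ≤ U` with prescribed value of `Q`. -/
theorem exists_value [Finite F] (hQ : Cfsg.Geo.IsNondegenerateQuadraticForm Q)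
    {U : Submodule F (ι → F)} (hU : Cfsg.Geo.IsNondegenerateOn B U)
    {V : Submodule F (ι → F)} (hVU : V ≤ U)
    (hroom : Module.finrank F ↥(V ⊓ (U ⊓ perpQ hQ V)) + Module.finrank F V + 3 ≤
      Module.finrank F U) (c : F) :
    ∃ y ∈ U, (∀ s ∈ V, B y s = 0) ∧ Q y = c := by
  have hb := hQ.polar_bilinear
  have h1 := inf_perp_ge (hQ := hQ) U V
  obtain ⟨e, ⟨heU, heV⟩, heV0, he⟩ := exists_singular_avoid hQ
    (S := U ⊓ perpQ hQ V) (V := V ⊓ (U ⊓ perpQ hQ V)) (by omega)
  have heV' : e ∉ V := fun h => heV0 ⟨h, heU, heV⟩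
  obtain ⟨f, hf, hfV, hfe⟩ := dual_in hQ hU hVU heU heV'
  refine ⟨f + (c - Q f) • e, U.add_mem hf (U.smul_mem _ heU), fun s hs => ?_, ?_⟩
  · rw [hb.add_left, hb.smul_left, hfV s hs, heV s hs, mul_zero, add_zero]
  · rw [Q_add_smul hQ, he, hfe]; ring

theorem finrank_pair_le (a b : ι → F) : Module.finrank F (Submodule.span F {a, b}) ≤ 2 := by
  classical
  have := finrank_span_finset_le_card (R := F) ({a, b} : Finset (ι → F))
  rw [Finset.coe_pair] at this
  exact this.trans Finset.card_le_two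

theorem mem_perp_pair {hQ : Cfsg.Geo.IsNondegenerateQuadraticForm Q} {a b y : ι → F}
    (h : ∀ s ∈ Submodule.span F {a, b}, B y s = 0) : B y a = 0 ∧ B y b = 0 :=
  ⟨h a (Submodule.subset_span (by simp)), h b (Submodule.subset_span (by simp))⟩

/-- Two singular vectors of `U` with non-zero product have a common singular pivot in `U`. -/
theorem exists_pivot [Finite F] (hQ : Cfsg.Geo.IsNondegenerateQuadraticForm Q)
    {U : Submodule F (ι → F)} (hU : Cfsg.Geo.IsNondegenerateOn B U)
    (hUd : 5 ≤ Module.finrank F U) {a x : ι → F} (ha : a ∈ U) (hx : x ∈ U) (haQ : Q a = 0)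
    (hxQ : Q x = 0) (hne : B a x ≠ 0) :
    ∃ p ∈ U, Q p = 0 ∧ B a p = 1 ∧ B x p = 1 := by
  have hb := hQ.polar_bilinear
  set t := (B a x)⁻¹ • (a + x) with ht
  have h0 : Submodule.span F {a, x} ⊓ (U ⊓ perpQ hQ (Submodule.span F {a, x})) = ⊥ := by
    rw [eq_bot_iff]
    rintro v ⟨hv, -, hvp⟩
    obtain ⟨c, d, rfl⟩ := Submodule.mem_span_pair.mp hv
    obtain ⟨h1, h2⟩ := mem_perp_pair (hQ := hQ) hvp
    rw [hb.add_left, hb.smul_left, hb.smul_left, B_self hQ, haQ, B_comm x a] at h1
    rw [hb.add_left, hb.smul_left, hb.smul_left, B_self hQ, hxQ] at h2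
    simp [hne] at h1 h2
    simp [h1, h2]
  obtain ⟨y, hy, hys, hyQ⟩ := exists_value hQ hU
    (Submodule.span_le.mpr (by
      intro z hz
      rcases hz with rfl | rfl <;> assumption) : Submodule.span F {a, x} ≤ U)
    (by
      have := finrank_pair_le a x
      rw [h0, finrank_bot]
      omega) (-Q t)
  obtain ⟨hya, hyx⟩ := mem_perp_pair (hQ := hQ) hys
  refine ⟨t + y, U.add_mem (U.smul_mem _ (U.add_mem ha hx)) hy, ?_, ?_, ?_⟩
  · rw [Q_add (Q := Q), hyQ, ht, hb.smul_left, hb.add_left, B_comm a y, B_comm x y, hya, hyx]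
    ring
  · rw [hb.add_right, ht, hb.smul_right, hb.add_right, B_self hQ, haQ, mul_zero, zero_add,
      B_comm a y, hya, add_zero, inv_mul_cancel₀ hne]
  · rw [hb.add_right, ht, hb.smul_right, hb.add_right, B_self hQ, hxQ, mul_zero, add_zero,
      B_comm x y, hyx, add_zero, B_comm x a, inv_mul_cancel₀ hne]

/-- The product of the reflections in two orthogonal vectors of the same norm lies in `Ω`. -/
theorem exists_refl_pair [Finite F] (hQ : Cfsg.Geo.IsNondegenerateQuadraticForm Q)
    (hn : 5 ≤ Fintype.card ι) {x y : ι → F} (hxQ : Q x ≠ 0) (hy : Q y = Q x)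
    (hxy : B x y = 0) :
    ∃ g ∈ Cfsg.Geo.omegaGL Q, ∀ z, (g : Matrix ι ι F) *ᵥ z =
      z + (-((Q x)⁻¹ * B z x)) • x + (-((Q x)⁻¹ * B z y)) • y := by
  have hb := hQ.polar_bilinear
  have hnd := qf_nondeg hQ
  have hy0 : Q y ≠ 0 := hy ▸ hxQ
  obtain ⟨k, hk, hkx⟩ := Cfsg.Agent.Lib.Forms.witt_one hnd (v := x) (w := y)
    (fun e => hxQ (by rw [e, Q_zero hQ])) (fun e => hy0 (by rw [e, Q_zero hQ]))
    (by rw [qf_apply, qf_apply, hy])
  let K : Cfsg.Agent.Lib.Forms.orth (qf hQ) := ⟨k, hk⟩
  let X := Cfsg.Agent.Lib.Forms.orefl (qf hQ) x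
  let Y := Cfsg.Agent.Lib.Forms.orefl (qf hQ) y
  have hY : K * X * K⁻¹ = Y := Subtype.ext (by
    show k * Cfsg.Agent.Lib.Forms.refl (qf hQ) x * k⁻¹ = _
    rw [Cfsg.Agent.Lib.Forms.refl_conj hk, hkx]; rfl)
  have hX : X⁻¹ = X := Subtype.ext (Cfsg.Agent.Lib.Forms.refl_inv (qf hQ) x)
  have hmem : X * Y ∈ Cfsg.Agent.Lib.OrthOmega.EG (qf hQ) := by
    rw [← Cfsg.Agent.Lib.OrthOmega.commutator_eq_EG hnd
      (by rwa [Module.finrank_fintype_fun_eq_card]), commutator_def]
    have : X * Y = ⁅X, K⁆ := by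
      rw [commutatorElement_def, ← hY, hX]; group
    rw [this]
    exact Subgroup.commutator_mem_commutator (Subgroup.mem_top _) (Subgroup.mem_top _)
  let φ := Cfsg.Agent.Lib.Forms.isoOrth (qf hQ) (f := Q) (fun v => (qf_apply hQ v).symm)
  have hgv : ∀ z, (((φ.symm (X * Y)) : GL ι F) : Matrix ι ι F) *ᵥ z = (X * Y).1 z := fun z => by
    rw [← Cfsg.Agent.Lib.Forms.isoOrth_apply (qf hQ) (f := Q) (fun v => (qf_apply hQ v).symm)]
    show (φ (φ.symm (X * Y))).1 z = _
    rw [φ.apply_symm_apply]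
  refine ⟨((φ.symm (X * Y)) : GL ι F), (mem_omegaGL hQ hn).mpr ⟨X * Y, hmem, fun z => (hgv z).symm⟩,
    fun z => ?_⟩
  rw [hgv]
  show Cfsg.Agent.Lib.Forms.refl (qf hQ) x (Cfsg.Agent.Lib.Forms.refl (qf hQ) y z) = _
  rw [Cfsg.Agent.Lib.Forms.refl_apply, Cfsg.Agent.Lib.Forms.refl_apply]
  show z - ((Q y)⁻¹ * B y z) • y - ((Q x)⁻¹ * B x (z - ((Q y)⁻¹ * B y z) • y)) • x = _
  rw [sub_right hQ, hb.smul_right, hxy, hy, B_comm y z, B_comm x z]
  module

variable {M : Subgroup (GL ι F)}

/-- An invariant subspace of `W` is zero or everything, outside the excluded planes. -/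
theorem eq_of_invariant [Finite F] (hQ : Cfsg.Geo.IsNondegenerateQuadraticForm Q)
    {W A : Submodule F (ι → F)} (hW : Cfsg.Geo.IsNondegenerateOn B W) (hAW : A ≤ W) (hA0 : A ≠ ⊥)
    (hrefl : ∀ x ∈ W, Q x ≠ 0 → ∀ a ∈ A, ((Q x)⁻¹ * B a x) • x ∈ A)
    (hsieg : ∀ e ∈ W, ∀ w ∈ W, Q e = 0 → B w e = 0 → ∀ a ∈ A,
      B a e • w + (-(B a w) - Q w * B a e) • e ∈ A)
    (hex : ¬ (Nat.card F ≤ 3 ∧ Module.finrank F W = 2 ∧ ∃ e ∈ W, e ≠ 0 ∧ Q e = 0)) : A = W := by
  have hb := hQ.polar_bilinear
  by_contra hne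
  obtain ⟨z, hzW, hzA⟩ := SetLike.exists_of_lt (lt_of_le_of_ne hAW hne)
  set A' := W ⊓ perpQ hQ A with hA'
  have hA'mem : ∀ {v}, v ∈ A' → v ∈ W ∧ ∀ a ∈ A, B v a = 0 := fun h => h
  have hani : ∀ x ∈ W, Q x ≠ 0 → x ∈ A ∨ x ∈ A' := by
    intro x hx hxQ
    by_cases h : ∀ a ∈ A, B x a = 0
    · exact Or.inr ⟨hx, h⟩
    · push Not at h
      obtain ⟨a, ha, hxa⟩ := h
      have hc : (Q x)⁻¹ * B a x ≠ 0 := mul_ne_zero (inv_ne_zero hxQ) (by rw [B_comm]; exact hxa)
      have := A.smul_mem ((Q x)⁻¹ * B a x)⁻¹ (hrefl x hx hxQ a ha)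
      rw [smul_smul, inv_mul_cancel₀ hc, one_smul] at this
      exact Or.inl this
  by_cases hR : ∃ r, r ≠ 0 ∧ r ∈ A ∧ r ∈ A'
  · obtain ⟨r, hr0, hrA, hrA'⟩ := hR
    obtain ⟨-, e, heW, hre⟩ := hW r (hAW hrA) hr0
    have hsing : ∀ v ∈ W, B r v ≠ 0 → Q v = 0 := by
      intro v hv hrv
      by_contra hvQ
      rcases hani v hv hvQ with h | h
      · exact hrv ((hA'mem hrA').2 v h)
      · exact hrv (by rw [B_comm]; exact (hA'mem h).2 r hrA)
    have heQ := hsing e heW hre
    have hrr : B r r = 0 := (hA'mem hrA').2 r hrA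
    have hd : ∀ d : F, d ≠ 0 → d * Q r + B e r = 0 := by
      intro d hd
      have := hsing (e + d • r) (W.add_mem heW (W.smul_mem _ (hAW hrA)))
        (by rw [hb.add_right, hb.smul_right, hrr, mul_zero, add_zero]; exact hre)
      rw [Q_add_smul hQ, heQ, zero_add] at this
      refine (mul_eq_zero.mp (?_ : d * (d * Q r + B e r) = 0)).resolve_left hd
      linear_combination this
    have hq : ∀ d : F, d ≠ 0 → d = 1 := by
      intro d hd0
      have h1 := hd 1 one_ne_zero
      have h2 := hd d hd0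
      have hQr : Q r ≠ 0 := fun h => hre (by
        rw [h, mul_zero, zero_add] at h1
        rw [B_comm]; exact h1)
      exact mul_right_cancel₀ hQr (by linear_combination h2 - h1)
    have hcard : Nat.card F ≤ 3 := by
      classical
      have : Fintype F := Fintype.ofFinite F
      rw [Nat.card_eq_fintype_card]
      calc Fintype.card F ≤ ({0, 1} : Finset F).card := by
            rw [← Finset.card_univ]
            refine Finset.card_le_card fun d _ => ?_
            by_cases h : d = 0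
            · simp [h]
            · simp [hq d h]
        _ ≤ 3 := le_trans Finset.card_le_two (by omega)
    have hre0 : e ≠ 0 := fun h => hre (by rw [h, zero_right hQ])
    have hk : Module.finrank F W ≤ 2 := by
      by_contra hk
      push Not at hk
      have h1 := inf_perp_ge (hQ := hQ) W (Submodule.span F {r, e})
      have h2 := finrank_pair_le r e
      obtain ⟨w, ⟨hwW, hwp⟩, hw0⟩ := Submodule.exists_mem_ne_zero_of_ne_bot
        (p := W ⊓ perpQ hQ (Submodule.span F {r, e})) (fun h => by rw [h, finrank_bot] at h1; omega)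
      obtain ⟨hwr, hwe⟩ := mem_perp_pair (hQ := hQ) hwp
      have key : ∀ w ∈ W, B w r = 0 → B w e = 0 → Q w = 0 := by
        intro w hwW hwr hwe
        have := hsing (e + w) (W.add_mem heW hwW)
          (by rw [hb.add_right, B_comm r w, hwr, add_zero]; exact hre)
        rwa [Q_add (Q := Q), heQ, zero_add, B_comm e w, hwe, add_zero] at this
      obtain ⟨-, y, hyW, hwy⟩ := hW w hwW hw0
      set β := B r e
      have hQe : B e e = 0 := by rw [B_self hQ, heQ, mul_zero]
      set y' := y + (-(B y r / β)) • e + (-(B y e / β)) • r with hy'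
      have hy'W : y' ∈ W :=
        W.add_mem (W.add_mem hyW (W.smul_mem _ heW)) (W.smul_mem _ (hAW hrA))
      have h3 : B y' r = 0 := by
        rw [hy', hb.add_left, hb.add_left, hb.smul_left, hb.smul_left, hrr, B_comm e r, neg_mul,
          div_mul_cancel₀ _ hre]; ring
      have h4 : B y' e = 0 := by
        rw [hy', hb.add_left, hb.add_left, hb.smul_left, hb.smul_left, hQe,
          neg_mul (B y e / β), div_mul_cancel₀ _ hre]; ring
      have h5 : B w y' = B w y := by
        rw [hy', hb.add_right, hb.add_right, hb.smul_right, hb.smul_right, hwe, hwr]; ring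
      have h6 := key (w + y') (W.add_mem hwW hy'W) (by rw [hb.add_left, hwr, h3, add_zero])
        (by rw [hb.add_left, hwe, h4, add_zero])
      rw [Q_add (Q := Q), key w hwW hwr hwe, key y' hy'W h3 h4, h5, zero_add, zero_add] at h6
      exact hwy h6
    refine hex ⟨hcard, le_antisymm hk ?_, e, heW, hre0, heQ⟩
    have hle : Submodule.span F {r, e} ≤ W := Submodule.span_le.mpr (by
      intro v hv
      rcases hv with rfl | rfl
      · exact hAW hrA
      · exact heW)
    by_contra hlt
    push Not at hlt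
    have h1 : r ∉ Submodule.span F {e} := fun hm => by
      obtain ⟨c, hc⟩ := Submodule.mem_span_singleton.mp hm
      apply hre
      rw [← hc, hb.smul_left, B_self hQ, heQ, mul_zero, mul_zero]
    have h2 : Submodule.span F {e} < W := lt_of_le_of_ne
      ((Submodule.span_singleton_le_iff_mem _ _).mpr heW)
      fun h => h1 (h ▸ hAW hrA)
    have := Submodule.finrank_lt_finrank_of_lt h2
    rw [finrank_span_singleton hre0] at this
    omega
  push Not at hR
  -- now `W` is the orthogonal sum of `A` and `A'`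
  have hinf : A ⊓ A' = ⊥ := by
    rw [eq_bot_iff]
    rintro v ⟨h1, h2⟩
    rw [Submodule.mem_bot]
    by_contra hv
    exact hR v hv h1 h2
  have hsum : A ⊔ A' = W := by
    refine Submodule.eq_of_le_of_finrank_le (sup_le hAW inf_le_left) ?_
    have h1 := Submodule.finrank_sup_add_finrank_inf_eq A A'
    rw [hinf, finrank_bot, add_zero] at h1
    have := inf_perp_ge (hQ := hQ) W A
    rw [← hA'] at this
    omega
  have hAnd : ∀ a ∈ A, a ≠ 0 → ∃ b ∈ A, B a b = 1 := by
    intro a ha ha0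
    obtain ⟨-, y, hy, hay⟩ := hW a (hAW ha) ha0
    obtain ⟨b, hb', b', hb'', rfl⟩ := Submodule.mem_sup.mp (hsum.symm ▸ hy : y ∈ A ⊔ A')
    rw [hb.add_right, B_comm a b', (hA'mem hb'').2 a ha, add_zero] at hay
    exact ⟨(B a b)⁻¹ • b, A.smul_mem _ hb', by rw [hb.smul_right, inv_mul_cancel₀ hay]⟩
  have hA'nd : ∀ a ∈ A', a ≠ 0 → ∃ b ∈ A', B a b = 1 := by
    intro a ha ha0
    obtain ⟨-, y, hy, hay⟩ := hW a (hA'mem ha).1 ha0
    obtain ⟨b, hb', b', hb'', rfl⟩ := Submodule.mem_sup.mp (hsum.symm ▸ hy : y ∈ A ⊔ A')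
    rw [hb.add_right, (hA'mem ha).2 b hb', zero_add] at hay
    exact ⟨(B a b')⁻¹ • b', A'.smul_mem _ hb'', by rw [hb.smul_right, inv_mul_cancel₀ hay]⟩
  obtain ⟨a0, ha0, ha00⟩ := Submodule.exists_mem_ne_zero_of_ne_bot hA0
  obtain ⟨z1, hz1, hz10⟩ : ∃ z1 ∈ A', z1 ≠ 0 := by
    obtain ⟨a, ha, a', ha', rfl⟩ := Submodule.mem_sup.mp (hsum.symm ▸ hzW : z ∈ A ⊔ A')
    exact ⟨a', ha', fun h => hzA (by rwa [h, add_zero])⟩
  have hanA : ∃ x ∈ A, Q x ≠ 0 := by
    by_contra h
    push Not at h
    obtain ⟨b, hb', hab⟩ := hAnd a0 ha0 ha00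
    rw [QuadraticMap.polar, h _ (A.add_mem ha0 hb'), h a0 ha0, h b hb'] at hab
    simp at hab
  have hanA' : ∃ x ∈ A', Q x ≠ 0 := by
    by_contra h
    push Not at h
    obtain ⟨b, hb', hab⟩ := hA'nd z1 hz1 hz10
    rw [QuadraticMap.polar, h _ (A'.add_mem hz1 hb'), h z1 hz1, h b hb'] at hab
    simp at hab
  have hmix : ∀ x ∈ A, x ≠ 0 → ∀ y ∈ A', y ≠ 0 → Q x + Q y = 0 := by
    intro x hx hx0 y hy hy0
    have h0 : B x y = 0 := by rw [B_comm]; exact (hA'mem hy).2 x hx
    by_contra h
    have hQs : Q (x + y) ≠ 0 := by rwa [Q_add (Q := Q), h0, add_zero]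
    rcases hani _ (W.add_mem (hAW hx) (hA'mem hy).1) hQs with h1 | h1
    · exact hR y hy0 (by simpa using A.sub_mem h1 hx) hy
    · exact hR x hx0 hx (by simpa using A'.sub_mem h1 hy)
  obtain ⟨x, hx, hxQ⟩ := hanA
  obtain ⟨y, hy, hyQ⟩ := hanA'
  have hx0 : x ≠ 0 := fun h => hxQ (by rw [h, Q_zero hQ])
  have hy0 : y ≠ 0 := fun h => hyQ (by rw [h, Q_zero hQ])
  have hconstA : ∀ v ∈ A, v ≠ 0 → Q v = Q x := fun v hv hv0 => by
    linear_combination hmix v hv hv0 y hy hy0 - hmix x hx hx0 y hy hy0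
  have hconstA' : ∀ v ∈ A', v ≠ 0 → Q v = Q y := fun v hv hv0 => by
    linear_combination hmix x hx hx0 v hv hv0 - hmix x hx hx0 y hy hy0
  have hsq : ∀ c : F, c ≠ 0 → c ^ 2 = 1 := fun c hc => by
    have := hconstA (c • x) (A.smul_mem c hx) (smul_ne_zero hc hx0)
    rw [hQ.smul] at this
    exact mul_right_cancel₀ hxQ (by linear_combination this)
  have hcard : Nat.card F ≤ 3 := by
    classical
    have : Fintype F := Fintype.ofFinite F
    rw [Nat.card_eq_fintype_card]
    calc Fintype.card F ≤ ({0, 1, -1} : Finset F).card := by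
          rw [← Finset.card_univ]
          refine Finset.card_le_card fun d _ => ?_
          by_cases h : d = 0
          · simp [h]
          · rcases sq_eq_one_iff.mp (hsq d h) with h' | h' <;> simp [h']
      _ ≤ 3 := Finset.card_le_three
  have hxy : B x y = 0 := by rw [B_comm]; exact (hA'mem hy).2 x hx
  have heQ : Q (x + y) = 0 := by rw [Q_add (Q := Q), hxy, add_zero]; exact hmix x hx hx0 y hy hy0
  have he0 : x + y ≠ 0 := fun h => hR x hx0 hx (by
    rw [eq_neg_of_add_eq_zero_left h]; exact A'.neg_mem hy)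
  by_cases hsmall : (∀ v ∈ A, v ∈ Submodule.span F {x}) ∧ ∀ v ∈ A', v ∈ Submodule.span F {y}
  · refine hex ⟨hcard, ?_, x + y, W.add_mem (hAW hx) (hA'mem hy).1, he0, heQ⟩
    have h1 : A = Submodule.span F {x} :=
      le_antisymm hsmall.1 ((Submodule.span_singleton_le_iff_mem _ _).mpr hx)
    have h2 : A' = Submodule.span F {y} :=
      le_antisymm hsmall.2 ((Submodule.span_singleton_le_iff_mem _ _).mpr hy)
    have h3 := Submodule.finrank_sup_add_finrank_inf_eq A A'
    rw [hinf, finrank_bot, add_zero, hsum, h1, h2, finrank_span_singleton hx0,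
      finrank_span_singleton hy0] at h3
    exact h3
  -- one of them has dimension at least two, so the characteristic is two
  have h2 : (2 : F) = 0 := by
    have key : ∀ (S : Submodule F (ι → F)) (p : ι → F), p ∈ S → Q p ≠ 0 →
        (∀ v ∈ S, v ≠ 0 → Q v = Q p) → (∃ v ∈ S, v ∉ Submodule.span F {p}) → (2 : F) = 0 := by
      intro S p hp hpQ hc ⟨v, hv, hvp⟩
      have hv0 : v ≠ 0 := fun h => hvp (h ▸ Submodule.zero_mem _)
      have hne : ∀ c : F, v + c • p ≠ 0 := fun c h => hvp (by
        rw [eq_neg_of_add_eq_zero_left h]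
        exact Submodule.neg_mem _ (Submodule.smul_mem _ _ (Submodule.mem_span_singleton_self _)))
      have e1 := hc _ (S.add_mem hv (S.smul_mem 1 hp)) (hne 1)
      have e2 := hc _ (S.add_mem hv (S.smul_mem (-1) hp)) (hne (-1))
      rw [Q_add_smul hQ, hc v hv hv0] at e1 e2
      refine (mul_eq_zero.mp (?_ : (2 : F) * Q p = 0)).resolve_right hpQ
      linear_combination e1 + e2
    by_cases h : ∀ v ∈ A, v ∈ Submodule.span F {x}
    · have h' : ∃ v ∈ A', v ∉ Submodule.span F {y} := by
        by_contra hh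
        push Not at hh
        exact hsmall ⟨h, hh⟩
      exact key A' y hy hyQ hconstA' h'
    · push Not at h
      exact key A x hx hxQ hconstA h
  obtain ⟨x', hx', hxx'⟩ := hAnd x hx hx0
  obtain ⟨y', hy', hyy'⟩ := hA'nd y hy hy0
  have hwe : B (x' + y') (x + y) = 0 := by
    rw [hb.add_left, hb.add_right, hb.add_right, B_comm x' x, hxx',
      B_comm y' y, hyy', B_comm x' y, (hA'mem hy).2 x' hx', (hA'mem hy').2 x hx]
    linear_combination h2
  set c := -(B x' (x' + y')) - Q (x' + y') * B x' (x + y) with hc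
  have hxe : B x' (x + y) = 1 := by
    rw [hb.add_right, B_comm x' x, hxx', B_comm x' y, (hA'mem hy).2 x' hx', add_zero]
  have hm := hsieg (x + y) (W.add_mem (hAW hx) (hA'mem hy).1) (x' + y')
    (W.add_mem (hAW hx') (hA'mem hy').1) heQ hwe x' hx'
  rw [← hc, hxe, one_smul] at hm
  have hm' : y' + c • y ∈ A := by
    have := A.sub_mem (A.sub_mem hm hx') (A.smul_mem c hx)
    rwa [show x' + y' + c • (x + y) - x' - c • x = y' + c • y by module] at this
  have h0 : y' + c • y = 0 := by
    by_contra h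
    exact hR _ h hm' (A'.add_mem hy' (A'.smul_mem c hy))
  have := hyy'
  rw [eq_neg_of_add_eq_zero_left h0, ← neg_smul, hb.smul_right, B_self hQ, h2, zero_mul,
    mul_zero] at this
  exact zero_ne_one this

/-- Singular vectors of a large non-degenerate subspace span it. -/
theorem span_singular_in [Finite F] (hQ : Cfsg.Geo.IsNondegenerateQuadraticForm Q)
    {U : Submodule F (ι → F)} (hU : Cfsg.Geo.IsNondegenerateOn B U)
    (hUd : 3 ≤ Module.finrank F U) :
    ∀ z ∈ U, z ∈ Submodule.span F {v : ι → F | v ∈ U ∧ Q v = 0} := by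
  have hb := hQ.polar_bilinear
  intro z hz
  set S := Submodule.span F {v : ι → F | v ∈ U ∧ Q v = 0}
  obtain ⟨u, hu, hu0, huQ⟩ := exists_singular_in hQ (S := U) (by omega)
  obtain ⟨f, hf, -, hfu⟩ := dual_in hQ hU (bot_le : (⊥ : Submodule F (ι → F)) ≤ U) hu
    (by simpa using hu0)
  have huS : u ∈ S := Submodule.subset_span ⟨hu, huQ⟩
  have key : ∀ y ∈ U, B y u = 1 → y ∈ S := by
    intro y hy hyu
    have h1 : y + (-Q y) • u ∈ S := Submodule.subset_span ⟨U.add_mem hy (U.smul_mem _ hu), by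
      rw [Q_add_smul hQ, huQ, hyu]; ring⟩
    have := S.sub_mem h1 (S.smul_mem (-Q y) huS)
    rwa [add_sub_cancel_right] at this
  have h1 := key (z + (1 - B z u) • f) (U.add_mem hz (U.smul_mem _ hf))
    (by rw [hb.add_left, hb.smul_left, hfu]; ring)
  have := S.sub_mem h1 (S.smul_mem (1 - B z u) (key f hf hfu))
  rwa [add_sub_cancel_right] at this

/-- An overgroup in `Ω` of the stabiliser of a non-degenerate subspace `W` is that stabiliser or
contains `Ω`. -/
theorem omega_le_of_nondeg [Finite F] (hQ : Cfsg.Geo.IsNondegenerateQuadraticForm Q)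
    (hn : 9 < Fintype.card ι) {W : Submodule F (ι → F)} (hW0 : W ≠ ⊥)
    (hW : Cfsg.Geo.IsNondegenerateOn B W) (hle : 2 * Module.finrank F W ≤ Fintype.card ι)
    (h26 : 6 ≤ Module.finrank F (perpQ hQ W) ∨ (2 : F) ≠ 0)
    (hex : ¬ (Nat.card F ≤ 3 ∧ Module.finrank F W = 2 ∧ ∃ e ∈ W, e ≠ 0 ∧ Q e = 0))
    (hMS : M ≤ Cfsg.Geo.omegaGL Q)
    (hswap : ∀ g ∈ M, ¬ ∀ u ∈ perpQ hQ W, (g : Matrix ι ι F) *ᵥ u ∈ W)
    (hP : ∀ g : GL ι F, g ∈ Cfsg.Geo.subspaceStabilizer W → g ∈ Cfsg.Geo.omegaGL Q → g ∈ M)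
    {g : GL ι F} (hgM : g ∈ M) (hg : g ∉ Cfsg.Geo.subspaceStabilizer W) :
    Cfsg.Geo.omegaGL Q ≤ M := by
  classical
  have hb := hQ.polar_bilinear
  have hn5 : 5 ≤ Fintype.card ι := by omega
  have hdim := finrank_add_perpQ (hQ := hQ) hW
  set U := perpQ hQ W with hUdef
  have hUn : Cfsg.Geo.IsNondegenerateOn B U := perpQ_nondeg hW
  have hUd : 5 ≤ Module.finrank F U := by omega
  have horth : ∀ w ∈ W, ∀ u ∈ U, B w u = 0 ∧ B u w = 0 :=
    fun w hw u hu => ⟨by rw [B_comm]; exact hu w hw, hu w hw⟩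
  have hiso : ∀ h ∈ M, ∀ x, Q ((h : Matrix ι ι F) *ᵥ x) = Q x :=
    fun h hh => omega_isometry hQ (hMS hh)
  -- Siegel elements inside one of the two summands
  have hsU : ∀ u ∈ U, Q u = 0 → ∀ w ∈ U, B w u = 0 → sieg Q u w ∈ M := by
    intro u hu huQ w hw hwu
    refine hP _ (mem_subspaceStabilizer_iff.mpr fun x hx => ?_) (sieg_mem_omega hQ hn5 huQ hwu)
    rw [sieg_mulVec hQ huQ hwu, (horth x hx u hu).1, (horth x hx w hw).1, mul_zero, sub_zero,
      neg_zero, zero_smul, zero_smul, add_zero, add_zero]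
    exact hx
  have hsW : ∀ u ∈ W, Q u = 0 → ∀ w ∈ W, B w u = 0 → sieg Q u w ∈ M := by
    intro u hu huQ w hw hwu
    refine hP _ (mem_subspaceStabilizer_iff.mpr fun x hx => ?_) (sieg_mem_omega hQ hn5 huQ hwu)
    rw [sieg_mulVec hQ huQ hwu]
    exact W.add_mem (W.add_mem hx (W.smul_mem _ hw)) (W.smul_mem _ hu)
  have hlU : ∀ u ∈ U, ∀ w ∈ U, Q u = 0 → Q w = 0 → B u w = 0 → Line Q M u w :=
    fun u hu w hw huQ hwQ huw => ⟨huQ, hwQ, huw, fun c => hsU _ (U.smul_mem c hu)
      (by rw [hQ.smul, huQ, mul_zero]) w hw (by rw [hb.smul_right, B_comm, huw, mul_zero])⟩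
  -- a singular vector of `U` with a Siegel element along `W`
  obtain ⟨a, ha, ha0, haQ, w0, hw0, hw00, hw0M⟩ : ∃ a ∈ U, a ≠ 0 ∧ Q a = 0 ∧
      ∃ w ∈ W, w ≠ 0 ∧ sieg Q a w ∈ M := by
    -- a line with a mixed vector
    have hmix : ∃ p s sW pU sU, Line Q M p s ∧ sW ∈ W ∧ sW ≠ 0 ∧ sU ∈ U ∧ s = sW + sU ∧
        pU ∈ U ∧ p - pU ∈ W ∧ pU ∉ Submodule.span F {sU} := by
      by_contra hno
      have key : ∀ p s, Line Q M p s → ∀ pW ∈ W, ∀ pU ∈ U, p = pW + pU → ∀ sW ∈ W, ∀ sU ∈ U,
          s = sW + sU → sW = 0 ∨ pU ∈ Submodule.span F {sU} := by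
        intro p s hps pW hpW pU hpU hp sW hsW sU hsU hs
        by_contra h
        push Not at h
        exact hno ⟨p, s, sW, pU, sU, hps, hsW, h.1, hsU, hs, hpU,
          by rwa [hp, add_sub_cancel_right], h.2⟩
      apply hg
      -- images of singular vectors of `U`
      have himg : ∀ u ∈ U, Q u = 0 →
          (g : Matrix ι ι F) *ᵥ u ∈ W ∨ (g : Matrix ι ι F) *ᵥ u ∈ U := by
        intro u hu huQ
        obtain ⟨pW, hpW, hpU⟩ := exists_split (hQ := hQ) hW ((g : Matrix ι ι F) *ᵥ u)
        set p := (g : Matrix ι ι F) *ᵥ u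
        by_contra hcon
        push Not at hcon
        obtain ⟨hc1, hc2⟩ := hcon
        have hpU0 : p - pW ≠ 0 := fun h => hc1 (sub_eq_zero.mp h ▸ hpW)
        have hpW0 : pW ≠ 0 := fun h => hc2 (by rwa [h, sub_zero] at hpU)
        obtain ⟨φ, hφ⟩ := exists_dot_eq_one hpU0
        -- singular `v ⊥ u` in `U` whose image has no component along `p - pW`
        let πU : (ι → F) →ₗ[F] (ι → F) :=
          { toFun := fun x => x - Classical.choose (exists_split (hQ := hQ) hW x)
            map_add' := fun x y => by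
              obtain ⟨h1, h1'⟩ := Classical.choose_spec (exists_split (hQ := hQ) hW x)
              obtain ⟨h2, h2'⟩ := Classical.choose_spec (exists_split (hQ := hQ) hW y)
              obtain ⟨h3, h3'⟩ := Classical.choose_spec (exists_split (hQ := hQ) hW (x + y))
              generalize Classical.choose (exists_split (hQ := hQ) hW x) = c1 at *
              generalize Classical.choose (exists_split (hQ := hQ) hW y) = c2 at *
              generalize Classical.choose (exists_split (hQ := hQ) hW (x + y)) = c3 at *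
              by_contra hne
              have hd : (x + y - c3) - (x - c1 + (y - c2)) = c1 + c2 - c3 := by abel
              have hm : c1 + c2 - c3 ∈ W := W.sub_mem (W.add_mem h1 h2) h3
              have hm' : c1 + c2 - c3 ∈ U := hd ▸ U.sub_mem h3' (U.add_mem h1' h2')
              refine hne (sub_eq_zero.mp ?_)
              rw [hd]
              by_contra hz
              obtain ⟨-, y', hy', hy''⟩ := hW _ hm hz
              exact hy'' (hm' y' hy')
            map_smul' := fun c x => by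
              obtain ⟨h1, h1'⟩ := Classical.choose_spec (exists_split (hQ := hQ) hW x)
              obtain ⟨h3, h3'⟩ := Classical.choose_spec (exists_split (hQ := hQ) hW (c • x))
              generalize Classical.choose (exists_split (hQ := hQ) hW x) = c1 at *
              generalize Classical.choose (exists_split (hQ := hQ) hW (c • x)) = c3 at *
              have hd : (c • x - c3) - c • (x - c1) = c • c1 - c3 := by
                rw [smul_sub]; abel
              have hm : c • c1 - c3 ∈ W := W.sub_mem (W.smul_mem c h1) h3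
              have hm' : c • c1 - c3 ∈ U := hd ▸ U.sub_mem h3' (U.smul_mem c h1')
              rw [RingHom.id_apply]
              refine sub_eq_zero.mp ?_
              rw [hd]
              by_contra hz
              obtain ⟨-, y', hy', hy''⟩ := hW _ hm hz
              exact hy'' (hm' y' hy') }
        have hπ : ∀ x, x - πU x ∈ W ∧ πU x ∈ U := fun x => by
          obtain ⟨h1, h1'⟩ := Classical.choose_spec (exists_split (hQ := hQ) hW x)
          exact ⟨by show x - (x - _) ∈ W; rwa [sub_sub_cancel], h1'⟩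
        let ψ : (ι → F) →ₗ[F] F :=
          { toFun := fun v => φ ⬝ᵥ πU ((g : Matrix ι ι F) *ᵥ v)
            map_add' := fun x y => by rw [mulVec_add, map_add, dotProduct_add]
            map_smul' := fun c x => by rw [mulVec_smul, map_smul, dotProduct_smul]; rfl }
        have hker : Fintype.card ι ≤ 1 + Module.finrank F (LinearMap.ker ψ) := by
          have h1 := LinearMap.finrank_range_add_finrank_ker ψ
          rw [Module.finrank_fintype_fun_eq_card] at h1
          have h2 : Module.finrank F (LinearMap.range ψ) ≤ 1 :=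
            le_trans (Submodule.finrank_le _) (le_of_eq (Module.finrank_self F))
          omega
        have h1 := inf_perp_ge (hQ := hQ) U (Submodule.span F {u})
        have hu0 : u ≠ 0 := fun h => hc1 (by
          show (g : Matrix ι ι F) *ᵥ u ∈ W
          rw [h, mulVec_zero]; exact W.zero_mem)
        rw [finrank_span_singleton hu0] at h1
        have h2 := Submodule.finrank_sup_add_finrank_inf_eq
          (U ⊓ perpQ hQ (Submodule.span F {u})) (LinearMap.ker ψ)
        have h3 : Module.finrank F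
            ↥((U ⊓ perpQ hQ (Submodule.span F {u})) ⊔ LinearMap.ker ψ) ≤ Fintype.card ι :=
          le_trans (Submodule.finrank_le _) (le_of_eq (Module.finrank_fintype_fun_eq_card F))
        obtain ⟨v, ⟨⟨hvU, hvu⟩, hvψ⟩, hv0, hvQ⟩ := exists_singular_in hQ
          (S := (U ⊓ perpQ hQ (Submodule.span F {u})) ⊓ LinearMap.ker ψ) (by omega)
        have huv : B u v = 0 := by
          rw [B_comm]; exact hvu u (Submodule.mem_span_singleton_self u)
        set s := (g : Matrix ι ι F) *ᵥ v
        obtain ⟨hsW, hsU⟩ := hπ s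
        have hline : Line Q M p s := line_conj hQ (hlU u hu v hvU huQ hvQ huv) hgM (hiso g hgM)
        have hψ : φ ⬝ᵥ πU s = 0 := hvψ
        rcases key p s hline pW hpW (p - pW) hpU (add_sub_cancel pW p).symm (s - πU s) hsW (πU s)
          hsU (sub_add_cancel s _).symm with h | h
        · -- `s ∈ U`: swap the roles
          have hs' : πU s = s := (sub_eq_zero.mp h).symm
          rcases key s p (line_symm hQ hline) (s - πU s) hsW (πU s) hsU (sub_add_cancel s _).symm
            pW hpW (p - pW) hpU (add_sub_cancel pW p).symm with h' | h'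
          · exact hpW0 h'
          · obtain ⟨c, hc⟩ := Submodule.mem_span_singleton.mp h'
            rw [← hc, dotProduct_smul, hφ, smul_eq_mul, mul_one] at hψ
            rw [hψ, zero_smul, hs'] at hc
            exact hv0 (gl_mulVec_injective g (by simpa using hc.symm))
        · obtain ⟨c, hc⟩ := Submodule.mem_span_singleton.mp h
          rw [← hc, dotProduct_smul, hψ, smul_zero] at hφ
          exact zero_ne_one hφ
      have hspan : ∀ (S : Submodule F (ι → F)),
          (∀ u ∈ U, Q u = 0 → (g : Matrix ι ι F) *ᵥ u ∈ S) →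
          ∀ u ∈ U, (g : Matrix ι ι F) *ᵥ u ∈ S := by
        intro S hS u hu
        have hle : Submodule.span F {v : ι → F | v ∈ U ∧ Q v = 0} ≤
            S.comap (Matrix.mulVecLin (g : Matrix ι ι F)) :=
          Submodule.span_le.mpr fun v hv => hS v hv.1 hv.2
        exact hle (span_singular_in hQ hUn (by omega) u hu)
      by_cases hallU : ∀ u ∈ U, Q u = 0 → (g : Matrix ι ι F) *ᵥ u ∈ U
      · have hgU : g ∈ Cfsg.Geo.subspaceStabilizer U :=
          mem_subspaceStabilizer_iff.mpr (hspan U hallU)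
        refine mem_subspaceStabilizer_iff.mpr fun w hw => ?_
        rw [← perpQ_perpQ (hQ := hQ) W]
        intro u hu
        have hu' := mem_subspaceStabilizer_iff.mp
          ((Cfsg.Geo.subspaceStabilizer U).inv_mem hgU) u hu
        rw [← gl_mulVec_inv g u, B_map (hiso g hgM)]
        exact (horth w hw _ hu').1
      · exfalso
        push Not at hallU
        obtain ⟨u1, hu1, hu1Q, hu1U⟩ := hallU
        have hu1W := (himg u1 hu1 hu1Q).resolve_right hu1U
        refine hswap g hgM (hspan W fun u hu huQ => ?_)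
        by_contra huW
        have huU := (himg u hu huQ).resolve_left huW
        have h0 : B u1 u = 0 := by
          rw [← B_map (hiso g hgM)]
          exact (horth _ hu1W _ huU).1
        rcases himg (u1 + u) (U.add_mem hu1 hu)
          (by rw [Q_add (Q := Q), hu1Q, huQ, h0, add_zero, add_zero]) with h | h
        · rw [mulVec_add] at h
          exact huW (by simpa using W.sub_mem h hu1W)
        · rw [mulVec_add] at h
          exact hu1U (by simpa using U.sub_mem h huU)
    obtain ⟨p, s, sW, pU, sU, hline, hsW', hsW0, hsU', hs, hpU, hpW, hind⟩ := hmix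
    set V := Submodule.span F {pU, sU} with hV
    have hVd : Module.finrank F V ≤ 2 := finrank_pair_le pU sU
    have h1 := inf_perp_ge (hQ := hQ) U V
    have hVU : V ≤ U := Submodule.span_le.mpr (by
      intro z hz
      rcases hz with rfl | rfl <;> assumption)
    suffices hgood : (∃ y x xW yU xU a, Line Q M y x ∧ xW ∈ W ∧ xW ≠ 0 ∧ xU ∈ U ∧ x = xW + xU ∧
        yU ∈ U ∧ y - yU ∈ W ∧ a ∈ U ∧ (∀ z ∈ Submodule.span F {yU, xU}, B a z = 0) ∧ a ≠ 0 ∧
        Q a = 0 ∧ yU ∉ Submodule.span F {a, xU}) ∨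
        (∃ a ∈ U, a ≠ 0 ∧ Q a = 0 ∧ ∃ w ∈ W, w ≠ 0 ∧ sieg Q a w ∈ M) by
      rcases hgood with ⟨p, s, sW, pU, sU, a, hline, hsW', hsW0, hsU', hs, hpU, hpW, haU, haV,
        ha0', haQ, hnot⟩ | hdone
      swap
      · exact hdone
      obtain ⟨hap, has⟩ := mem_perp_pair (hQ := hQ) haV
      obtain ⟨b, hbU, hbV, hbp⟩ := dual_in hQ hUn (Submodule.span_le.mpr (by
        intro z hz
        rcases hz with rfl | rfl <;> assumption) : Submodule.span F {a, sU} ≤ U) hpU hnot
      obtain ⟨hba, hbs⟩ := mem_perp_pair (hQ := hQ) hbV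
      have hB : ∀ x xW, ∀ xU : ι → F, xW ∈ W → x = xW + xU → ∀ y ∈ U, B x y = B xU y := by
        intro x xW xU hxW hx y hy
        rw [hx, hb.add_left, (horth xW hxW y hy).1, zero_add]
      have hpd : p = (p - pU) + pU := (sub_add_cancel p pU).symm
      have hsa : B s a = 0 := by rw [hB s sW sU hsW' hs a haU, B_comm, has]
      have hsb : B s b = 0 := by rw [hB s sW sU hsW' hs b hbU, B_comm, hbs]
      have hpa : B p a = 0 := by rw [hB p _ pU hpW hpd a haU, B_comm, hap]
      have hpb : B p b = 1 := by rw [hB p _ pU hpW hpd b hbU, B_comm, hbp]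
      have hbaM : sieg Q a b ∈ M := hsU a haU haQ b hbU hba
      have hc := line_conj hQ hline hbaM (fun x => sieg_isometry hQ haQ hba x)
      rw [sieg_mulVec hQ haQ hba, sieg_mulVec hQ haQ hba, hsa, hsb, hpa, hpb] at hc
      simp only [mul_zero, sub_zero, neg_zero, zero_smul, add_zero] at hc
      have hsub := line_smul hQ (line_sub hQ hc hline (by rw [hQ.smul, haQ, mul_zero])) (-1)
      rw [smul_smul, neg_one_mul, neg_neg, one_smul] at hsub
      refine ⟨a, haU, ha0', haQ, sW, hsW', hsW0, ?_⟩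
      have hsaM : sieg Q a s ∈ M := by simpa using hsub.2.2.2 1
      have hwa : B sW a = 0 := (horth sW hsW' a haU).1
      have hua : B sU a = 0 := by rw [B_comm, has]
      rw [hs, sieg_add_right hQ haQ hwa hua] at hsaM
      simpa using M.mul_mem hsaM (M.inv_mem (hsU a haU haQ sU hsU' hua))
    -- a singular vector of `U` orthogonal to `V` and outside it
    have hA : (∃ a, a ∈ U ∧ (∀ z ∈ V, B a z = 0) ∧ a ∉ V ∧ Q a = 0) →
        ∃ y x xW yU xU a, Line Q M y x ∧ xW ∈ W ∧ xW ≠ 0 ∧ xU ∈ U ∧ x = xW + xU ∧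
        yU ∈ U ∧ y - yU ∈ W ∧ a ∈ U ∧ (∀ z ∈ Submodule.span F {yU, xU}, B a z = 0) ∧ a ≠ 0 ∧
        Q a = 0 ∧ yU ∉ Submodule.span F {a, xU} := by
      rintro ⟨a, haU, haV, haV', haQ⟩
      refine ⟨p, s, sW, pU, sU, a, hline, hsW', hsW0, hsU', hs, hpU, hpW, haU, haV,
        fun h => haV' (h ▸ Submodule.zero_mem _), haQ, fun hm => ?_⟩
      obtain ⟨c, d, hcd⟩ := Submodule.mem_span_pair.mp hm
      rcases eq_or_ne c 0 with rfl | hc
      · exact hind (Submodule.mem_span_singleton.mpr ⟨d, by simpa using hcd⟩)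
      · refine haV' (Submodule.mem_span_pair.mpr ⟨c⁻¹, -(c⁻¹ * d), ?_⟩)
        rw [← hcd, smul_add, smul_smul, smul_smul, inv_mul_cancel₀ hc, one_smul, neg_smul,
          add_neg_cancel_right]
    have hA' : Module.finrank F ↥(V ⊓ (U ⊓ perpQ hQ V)) + 3 ≤
        Module.finrank F ↥(U ⊓ perpQ hQ V) →
        ∃ a, a ∈ U ∧ (∀ z ∈ V, B a z = 0) ∧ a ∉ V ∧ Q a = 0 := by
      intro h
      obtain ⟨a, ⟨haU, haV⟩, haV0, haQ⟩ := exists_singular_avoid hQ
        (S := U ⊓ perpQ hQ V) (V := V ⊓ (U ⊓ perpQ hQ V)) h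
      exact ⟨a, haU, haV, fun h => haV0 ⟨h, haU, haV⟩, haQ⟩
    by_cases h2 : (2 : F) = 0
    · -- characteristic two
      have hU6 : 6 ≤ Module.finrank F U := h26.resolve_right fun h => h h2
      by_cases hV1 : Module.finrank F ↥(V ⊓ (U ⊓ perpQ hQ V)) ≤ 1
      · exact Or.inl (hA (hA' (by omega)))
      have hfull : V ⊓ (U ⊓ perpQ hQ V) = V :=
        Submodule.eq_of_le_of_finrank_le inf_le_left (by omega)
      have hVS : ∀ z ∈ V, ∀ z' ∈ V, B z z' = 0 :=
        fun z hz z' hz' => (inf_eq_left.mp hfull hz).2 z' hz'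
      have hsV : sU ∈ V := Submodule.subset_span (by simp)
      have hs0 : sU ≠ 0 := fun h => hV1 (by
        rw [hfull]
        have : V ≤ Submodule.span F {pU} := Submodule.span_le.mpr (by
          intro z hz
          rcases hz with rfl | rfl
          · exact Submodule.mem_span_singleton_self _
          · rw [h]; exact Submodule.zero_mem _)
        exact le_trans (Submodule.finrank_mono this) ((finrank_span_le_card _).trans (by simp)))
      by_cases hsQ : Q sU = 0
      · exact Or.inl ⟨p, s, sW, pU, sU, sU, hline, hsW', hsW0, hsU', hs, hpU, hpW, hsU',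
          hVS sU hsV, hs0, hsQ, by simpa using hind⟩
      obtain ⟨z, hz, hzV⟩ : ∃ z ∈ U ⊓ perpQ hQ V, z ∉ V := by
        by_contra hh
        push Not at hh
        have := Submodule.finrank_mono (show U ⊓ perpQ hQ V ≤ V from hh)
        omega
      have : Fintype F := Fintype.ofFinite F
      have hc : ringChar F = 2 := by
        have : CharP F 2 := CharTwo.of_one_ne_zero_of_two_eq_zero one_ne_zero h2
        exact ringChar.eq F 2
      obtain ⟨c, hc'⟩ := FiniteField.isSquare_of_char_two hc (-Q z / Q sU)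
      refine Or.inl (hA ⟨z + c • sU, U.add_mem hz.1 (U.smul_mem _ hsU'), fun v hv => ?_,
        fun hm => hzV ?_, ?_⟩)
      · rw [hb.add_left, hb.smul_left, hz.2 v hv, hVS sU hsV v hv, mul_zero, add_zero]
      · simpa using V.sub_mem hm (V.smul_mem c hsV)
      · rw [Q_add_smul hQ, hz.2 sU hsV, mul_zero, add_zero, pow_two, ← hc',
          div_mul_cancel₀ _ hsQ, add_neg_cancel]
    by_cases hroom : Module.finrank F ↥(V ⊓ (U ⊓ perpQ hQ V)) + 3 ≤
        Module.finrank F ↥(U ⊓ perpQ hQ V)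
    · exact Or.inl (hA (hA' hroom))
    have hrad : ∃ r ∈ V ⊓ (U ⊓ perpQ hQ V), r ≠ 0 :=
      Submodule.exists_mem_ne_zero_of_ne_bot fun h => hroom (by rw [h, finrank_bot]; omega)
    have hsp2 : sU ∉ Submodule.span F {pU} := fun h => hroom (by
      have h3 : V ≤ Submodule.span F {pU} := Submodule.span_le.mpr (by
        intro z hz
        rcases hz with rfl | rfl
        · exact Submodule.mem_span_singleton_self _
        · exact h)
      have h4 : Module.finrank F V ≤ 1 :=
        le_trans (Submodule.finrank_mono h3) ((finrank_span_le_card _).trans (by simp))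
      have h5 : Module.finrank F ↥(V ⊓ (U ⊓ perpQ hQ V)) ≤ Module.finrank F V :=
        Submodule.finrank_mono inf_le_left
      omega)
    obtain ⟨r, ⟨hrV, hrU, hrp⟩, hr0⟩ := hrad
    have hrQ : Q r = 0 := by
      have h := hrp r hrV
      rw [B_self hQ] at h
      exact (mul_eq_zero.mp h).resolve_left h2
    obtain ⟨hrpU, hrsU⟩ := mem_perp_pair (hQ := hQ) hrp
    obtain ⟨α, β, hr⟩ := Submodule.mem_span_pair.mp hrV
    obtain ⟨hpQ, hsQ, hps, hLM⟩ := hline
    have hxQ : Q (α • p + β • s) = 0 := by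
      rw [Q_add_smul hQ, hQ.smul, hpQ, hsQ, hb.smul_left, hps]; ring
    have hsp : B s p = 0 := by rw [B_comm]; exact hps
    have hsx : B s (α • p + β • s) = 0 := by
      rw [hb.add_right, hb.smul_right, hb.smul_right, hsp, B_self hQ, hsQ]; ring
    have hrd : α • p + β • s - r = α • (p - pU) + β • sW := by
      rw [← hr, hs]; module
    have hxW' : α • p + β • s - r ∈ W := by
      rw [hrd]; exact W.add_mem (W.smul_mem _ hpW) (W.smul_mem _ hsW')
    by_cases hxW : α • p + β • s - r = 0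
    · -- a vector of `U` on the line
      rw [sub_eq_zero] at hxW
      have hrs : B r s = 0 := by rw [← hxW, B_comm]; exact hsx
      have hmem : sieg Q (α • p) s ∈ M := hLM α
      have heq : sieg Q r s = sieg Q (α • p) s := gl_ext fun x => by
        rw [sieg_mulVec hQ hrQ (by rw [B_comm]; exact hrs),
          sieg_mulVec hQ (by rw [hQ.smul, hpQ, mul_zero])
            (by rw [hb.smul_right, hsp, mul_zero]), ← hxW, hsQ]
        simp only [hb.add_right, hb.smul_right]
        module
      rw [← heq, hs, sieg_add_right hQ hrQ (horth sW hsW' r hrU).1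
        (by rw [B_comm]; exact hrsU)] at hmem
      exact Or.inr ⟨r, hrU, hr0, hrQ, sW, hsW', hsW0,
        by simpa using M.mul_mem hmem (M.inv_mem (hsU r hrU hrQ sU hsU'
          (by rw [B_comm]; exact hrsU)))⟩
    have hL : Line Q M p s := ⟨hpQ, hsQ, hps, hLM⟩
    -- the second point of the line
    obtain ⟨y, yU, hy, hyU, hyW, hyr, hyn⟩ : ∃ y yU, Line Q M y (α • p + β • s) ∧ yU ∈ U ∧
        y - yU ∈ W ∧ B r yU = 0 ∧ yU ∉ Submodule.span F {r} := by
      rcases eq_or_ne β 0 with rfl | hβ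
      · refine ⟨s, sU, ?_, hsU', by rw [hs, add_sub_cancel_right]; exact hsW', hrsU, fun hm => ?_⟩
        · simpa using line_symm hQ (line_smul hQ hL α)
        · obtain ⟨c, hc⟩ := Submodule.mem_span_singleton.mp hm
          rw [← hr, zero_smul, add_zero, smul_smul] at hc
          exact hsp2 (Submodule.mem_span_singleton.mpr ⟨c * α, hc⟩)
      · refine ⟨p, pU, ⟨hpQ, hxQ, (by
          rw [hb.add_right, hb.smul_right, hb.smul_right, hps, B_self hQ, hpQ]; ring),
          fun c => ?_⟩, hpU, hpW, hrpU, fun hm => ?_⟩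
        · have heq : sieg Q (c • p) (α • p + β • s) = sieg Q ((c * β) • p) s := gl_ext fun x => by
            rw [sieg_mulVec hQ (by rw [hQ.smul, hpQ, mul_zero])
                (by rw [hb.smul_right, hb.add_left, hb.smul_left, hb.smul_left, B_self hQ, hpQ,
                  hsp]; ring),
              sieg_mulVec hQ (by rw [hQ.smul, hpQ, mul_zero])
                (by rw [hb.smul_right, hsp, mul_zero]), hxQ, hsQ]
            simp only [hb.add_right, hb.smul_right]
            module
          rw [heq]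
          exact hLM _
        · obtain ⟨c, hc⟩ := Submodule.mem_span_singleton.mp hm
          rw [← hr] at hc
          rcases eq_or_ne c 0 with rfl | hc0
          · exact hind (by rw [← hc, zero_smul]; exact Submodule.zero_mem _)
          · refine hsp2 (Submodule.mem_span_singleton.mpr ⟨(c * β)⁻¹ * (1 - c * α), ?_⟩)
            calc ((c * β)⁻¹ * (1 - c * α)) • pU = (c * β)⁻¹ • (pU - (c * α) • pU) := by module
              _ = (c * β)⁻¹ • ((c * β) • sU) := by
                congr 1
                linear_combination (norm := module) -hc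
              _ = sU := by rw [smul_smul, inv_mul_cancel₀ (mul_ne_zero hc0 hβ), one_smul]
    refine Or.inl ⟨y, α • p + β • s, α • p + β • s - r, yU, r, r, hy, hxW', hxW, hrU,
      (sub_add_cancel _ r).symm, hyU, hyW, hrU, fun z hz => ?_, hr0, hrQ, ?_⟩
    · obtain ⟨c, d, rfl⟩ := Submodule.mem_span_pair.mp hz
      rw [hb.add_right, hb.smul_right, hb.smul_right, hyr, hrp r hrV]
      ring
    · simpa using hyn
  -- conjugation inside `U`
  let Good : (ι → F) → Prop := fun u => ∀ w ∈ W, sieg Q u w ∈ M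
  have hconn : ∀ u ∈ U, ∀ x ∈ U, Q u = 0 → Q x = 0 → u ≠ 0 → x ≠ 0 →
      ∀ w ∈ W, sieg Q u w ∈ M → sieg Q x w ∈ M := by
    have near : ∀ u ∈ U, ∀ x ∈ U, Q u = 0 → Q x = 0 → B u x ≠ 0 →
        ∀ w ∈ W, sieg Q u w ∈ M → sieg Q x w ∈ M := by
      intro u hu x hx huQ hxQ hne w hw h
      obtain ⟨p, hp, hpQ, hup, hxp⟩ := exists_pivot hQ hUn hUd hu hx huQ hxQ hne
      have hw' : B (x - u) p = 0 := by rw [form_sub_left (bil hQ), hxp, hup, sub_self]
      have hgm := hsU p hp hpQ _ (U.sub_mem hx hu) hw'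
      have hh := fun y => sieg_isometry hQ hpQ hw' y
      have h1 := M.mul_mem (M.mul_mem hgm h) (M.inv_mem hgm)
      rw [conj_sieg hQ hh huQ (horth w hw u hu).1, move_eq hQ hpQ huQ hxQ hup hxp,
        sieg_mulVec hQ hpQ hw', (horth w hw p hp).1, (horth w hw _ (U.sub_mem hx hu)).1] at h1
      simpa using h1
    intro u hu x hx huQ hxQ hu0 hx0 w hw h
    by_cases hne : B u x = 0
    swap
    · exact near u hu x hx huQ hxQ hne w hw h
    obtain ⟨⟨y1, hy1, hy1u⟩, -⟩ := hUn u hu hu0
    obtain ⟨⟨y2, hy2, hy2x⟩, -⟩ := hUn x hx hx0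
    obtain ⟨y, hy, hyu, hyx⟩ : ∃ y ∈ U, B y u ≠ 0 ∧ B y x ≠ 0 := by
      by_cases h1 : B y1 x ≠ 0
      · exact ⟨y1, hy1, hy1u, h1⟩
      by_cases h2 : B y2 u ≠ 0
      · exact ⟨y2, hy2, h2, hy2x⟩
      push Not at h1 h2
      exact ⟨y1 + y2, U.add_mem hy1 hy2, by rw [hb.add_left, h2, add_zero]; exact hy1u,
        by rw [hb.add_left, h1, zero_add]; exact hy2x⟩
    set m := y + (-(Q y / B y u)) • u with hm
    have hmQ : Q m = 0 := by
      rw [hm, Q_add_smul hQ, huQ, neg_mul, div_mul_cancel₀ _ hyu]; ring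
    have hmU : m ∈ U := U.add_mem hy (U.smul_mem _ hu)
    have hum : B u m ≠ 0 := by
      rw [hm, hb.add_right, hb.smul_right, B_self hQ, huQ, mul_zero, mul_zero, add_zero, B_comm]
      exact hyu
    have hmx : B m x ≠ 0 := by
      rw [hm, hb.add_left, hb.smul_left, hne, mul_zero, add_zero]; exact hyx
    exact near m hmU x hx hmQ hxQ hmx w hw (near u hu m hmU huQ hmQ hum w hw h)
  -- the subspace of vectors of `W` giving Siegel elements at `a`
  let A : Submodule F (ι → F) :=
    { carrier := {w | w ∈ W ∧ sieg Q a w ∈ M}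
      add_mem' := by
        rintro v w ⟨hv, hv'⟩ ⟨hw, hw'⟩
        refine ⟨W.add_mem hv hw, ?_⟩
        rw [sieg_add_right hQ haQ (horth v hv a ha).1 (horth w hw a ha).1]
        exact M.mul_mem hv' hw'
      zero_mem' := ⟨W.zero_mem, hsU a ha haQ 0 U.zero_mem (form_zero_left (bil hQ) a)⟩
      smul_mem' := by
        rintro c w ⟨hw, hw'⟩
        refine ⟨W.smul_mem c hw, ?_⟩
        rcases eq_or_ne c 0 with rfl | hc
        · rw [zero_smul]; exact hsU a ha haQ 0 U.zero_mem (form_zero_left (bil hQ) a)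
        have h1 := hconn a ha (c • a) (U.smul_mem c ha) haQ (by rw [hQ.smul, haQ, mul_zero]) ha0
          (smul_ne_zero hc ha0) w hw hw'
        have heq : sieg Q (c • a) w = sieg Q a (c • w) := gl_ext fun x => by
          rw [sieg_mulVec hQ (by rw [hQ.smul, haQ, mul_zero])
              (by rw [hb.smul_right, (horth w hw a ha).1, mul_zero]),
            sieg_mulVec hQ haQ (by rw [hb.smul_left, (horth w hw a ha).1, mul_zero]), hQ.smul,
            hb.smul_right, hb.smul_right]
          module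
        rwa [heq] at h1 }
  have hA : A = W := by
    refine eq_of_invariant hQ hW (fun w hw => hw.1) (fun h => hw00 ?_) ?_ ?_ hex
    · have : w0 ∈ A := ⟨hw0, hw0M⟩
      rwa [h, Submodule.mem_bot] at this
    · intro x hx hxQ w hwA
      obtain ⟨hw, hw'⟩ := hwA
      obtain ⟨y, hy, hys, hyQ⟩ := exists_value hQ hUn
        ((Submodule.span_singleton_le_iff_mem _ _).mpr ha)
        (by
          have := rad_le_one hQ (U := U) (V := Submodule.span F {a})
            (by rw [finrank_span_singleton ha0]; omega) (Or.inl (by rw [finrank_span_singleton ha0]))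
          rw [finrank_span_singleton ha0]
          omega) (Q x)
      have hya : B y a = 0 := hys a (Submodule.mem_span_singleton_self a)
      obtain ⟨r, hrΩ, hr⟩ := exists_refl_pair hQ hn5 hxQ hyQ (horth x hx y hy).1
      have hrM : r ∈ M := hP r (mem_subspaceStabilizer_iff.mpr fun z hz => by
        rw [hr, (horth z hz y hy).1, mul_zero, neg_zero, zero_smul, add_zero]
        exact W.add_mem hz (W.smul_mem _ hx)) hrΩ
      have hra : (r : Matrix ι ι F) *ᵥ a = a := by
        rw [hr, (horth x hx a ha).2, B_comm a y, hya]; simp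
      have hrw : (r : Matrix ι ι F) *ᵥ w = w + (-((Q x)⁻¹ * B w x)) • x := by
        rw [hr, (horth w hw y hy).1]; simp
      have h1 := M.mul_mem (M.mul_mem hrM hw') (M.inv_mem hrM)
      rw [conj_sieg hQ (hiso r hrM) haQ (horth w hw a ha).1, hra, hrw] at h1
      have hA1 : w + (-((Q x)⁻¹ * B w x)) • x ∈ A := ⟨W.add_mem hw (W.smul_mem _ hx), h1⟩
      have := A.sub_mem (⟨hw, hw'⟩ : w ∈ A) hA1
      simpa [neg_smul] using this
    · intro e he w hw heQ hwe v hvA
      obtain ⟨hv, hv'⟩ := hvA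
      have hm := hsW e he heQ w hw hwe
      have hh := fun y => sieg_isometry hQ heQ hwe y
      have h1 := M.mul_mem (M.mul_mem hm hv') (M.inv_mem hm)
      rw [conj_sieg hQ hh haQ (horth v hv a ha).1, sieg_mulVec hQ heQ hwe,
        sieg_mulVec hQ heQ hwe, (horth e he a ha).2, (horth w hw a ha).2, mul_zero, sub_zero,
        neg_zero, zero_smul, zero_smul, add_zero, add_zero] at h1
      have hA1 : v + B v e • w + (-(B v w) - Q w * B v e) • e ∈ A :=
        ⟨W.add_mem (W.add_mem hv (W.smul_mem _ hw)) (W.smul_mem _ he), h1⟩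
      have := A.sub_mem hA1 (⟨hv, hv'⟩ : v ∈ A)
      rwa [show v + B v e • w + (-(B v w) - Q w * B v e) • e - v =
        B v e • w + (-(B v w) - Q w * B v e) • e by abel] at this
  -- every singular vector of `U` is a full centre
  have hFU : ∀ u ∈ U, Q u = 0 → u ≠ 0 → Full Q M u := by
    intro u hu huQ hu0
    refine ⟨huQ, fun w hw => ?_⟩
    obtain ⟨wW, hwW, hwU⟩ := exists_split (hQ := hQ) hW w
    have h1 : B wW u = 0 := (horth wW hwW u hu).1
    have h2 : B (w - wW) u = 0 := by rw [form_sub_left (bil hQ), hw, h1, sub_zero]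
    rw [← add_sub_cancel wW w, sieg_add_right hQ huQ h1 h2]
    exact M.mul_mem (hconn a ha u hu haQ huQ ha0 hu0 wW hwW (hA.ge hwW).2) (hsU u hu huQ _ hwU h2)
  -- singular vectors with a component in `U`
  have hF1 : ∀ z, Q z = 0 → ∀ zU ∈ U, z - zU ∈ W → zU ≠ 0 → Full Q M z := by
    intro z hz zU hzU hzW hzU0
    obtain ⟨t, ht, -, htz⟩ := dual_in hQ hUn (bot_le : (⊥ : Submodule F (ι → F)) ≤ U) hzU
      (by simpa using hzU0)
    obtain ⟨p, hp, hpQ, hzp⟩ : ∃ p ∈ U, Q p = 0 ∧ B zU p = 1 := by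
      by_cases hQz : Q zU = 0
      · refine ⟨t + (-Q t) • zU, U.add_mem ht (U.smul_mem _ hzU), by
          rw [Q_add_smul hQ, hQz, htz]; ring, ?_⟩
        rw [hb.add_right, hb.smul_right, B_self hQ, hQz, B_comm zU t, htz]; ring
      · by_cases h2 : (2 : F) = 0
        · have hle : Submodule.span F {zU, t} ≤ U := Submodule.span_le.mpr (by
            intro x hx
            rcases hx with rfl | rfl <;> assumption)
          have hU6 : 6 ≤ Module.finrank F U := h26.resolve_right fun h => h h2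
          obtain ⟨y, hy, hys, hyQ⟩ := exists_value hQ hUn hle (by
            have := finrank_pair_le zU t
            have := rad_le_one hQ (U := U) (finrank_pair_le zU t)
              (Or.inr ⟨t, Submodule.subset_span (by simp), zU, Submodule.subset_span (by simp), by
                rw [htz]; exact one_ne_zero⟩)
            omega) (-Q t)
          obtain ⟨hyz, hyt⟩ := mem_perp_pair (hQ := hQ) hys
          refine ⟨t + y, U.add_mem ht hy, by rw [Q_add (Q := Q), hyQ, B_comm t y, hyt]; ring, ?_⟩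
          rw [hb.add_right, B_comm zU t, htz, B_comm zU y, hyz, add_zero]
        · set d := (2 * Q zU)⁻¹ with hd
          obtain ⟨y, hy, hys, hyQ⟩ := exists_value hQ hUn
            ((Submodule.span_singleton_le_iff_mem _ _).mpr hzU) (by
              have : Submodule.span F {zU} ⊓ (U ⊓ perpQ hQ (Submodule.span F {zU})) = ⊥ := by
                rw [eq_bot_iff]
                rintro v ⟨hv, -, hvp⟩
                obtain ⟨c, rfl⟩ := Submodule.mem_span_singleton.mp hv
                have h' := hvp zU (Submodule.mem_span_singleton_self zU)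
                rw [hb.smul_left, B_self hQ] at h'
                simp [(mul_eq_zero.mp h').resolve_right (mul_ne_zero h2 hQz)]
              rw [this, finrank_bot, finrank_span_singleton hzU0]
              omega) (-(d ^ 2 * Q zU))
          have hyz : B y zU = 0 := hys zU (Submodule.mem_span_singleton_self zU)
          refine ⟨d • zU + y, U.add_mem (U.smul_mem _ hzU) hy, ?_, ?_⟩
          · rw [Q_add (Q := Q), hyQ, hQ.smul, hb.smul_left, B_comm zU y, hyz]; ring
          · rw [hb.add_right, hb.smul_right, B_self hQ, B_comm zU y, hyz, add_zero, hd,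
              inv_mul_cancel₀ (mul_ne_zero h2 hQz)]
    have hp0 : p ≠ 0 := fun h => one_ne_zero (by rw [← hzp, h, zero_right hQ])
    obtain ⟨f, hf, -, hfp⟩ := dual_in hQ hUn (bot_le : (⊥ : Submodule F (ι → F)) ≤ U) hp
      (by simpa using hp0)
    have hxQ : Q (f + (-Q f) • p) = 0 := by rw [Q_add_smul hQ, hpQ, hfp]; ring
    have hxp : B (f + (-Q f) • p) p = 1 := by
      rw [hb.add_left, hb.smul_left, hfp, B_self hQ, hpQ]; ring
    have hzp' : B z p = 1 := by
      rw [← sub_add_cancel z zU, hb.add_left, (horth _ hzW p hp).1, hzp, zero_add]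
    exact full_move hQ (hFU p hp hpQ hp0) (hFU _ (U.add_mem hf (U.smul_mem _ hp)) hxQ
      (fun h => one_ne_zero (by rw [← hxp, h, form_zero_left (bil hQ)]))) hz hxp hzp'
  refine omega_le_of_full hQ hn5 fun z hz => ?_
  obtain ⟨zW, hzW, hzU⟩ := exists_split (hQ := hQ) hW z
  by_cases h : z - zW = 0
  swap
  · exact hF1 z hz _ hzU (by rwa [sub_sub_cancel]) h
  rw [sub_eq_zero] at h
  subst h
  rcases eq_or_ne z 0 with rfl | hz0
  · refine ⟨Q_zero hQ, fun w hw => ?_⟩
    have h1 : sieg Q (0 : ι → F) w = 1 := gl_ext fun x => by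
      rw [sieg_mulVec hQ (Q_zero hQ) hw, zero_right hQ, Units.val_one, one_mulVec]; simp
    rw [h1]; exact M.one_mem
  obtain ⟨y, hy, hy0⟩ := Submodule.exists_mem_ne_zero_of_ne_bot (p := U)
    (fun h => by rw [h, finrank_bot] at hUd; omega)
  have key : ∀ p : ι → F, p ∉ Submodule.span F {y} →
      ∃ b, Full Q M b ∧ B b p = 1 ∧ B b y = 1 := by
    intro p hp
    obtain ⟨b, hbQ, hbs, hbp⟩ := exists_singular_any hQ ![y - p] (z := p) (fun hm => by
      rw [Matrix.range_cons, Matrix.range_empty, Set.union_empty,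
        Submodule.mem_span_singleton] at hm
      obtain ⟨c, hc⟩ := hm
      rcases eq_or_ne (1 + c) 0 with e | e
      · refine hy0 ?_
        rw [show c = -1 by linear_combination e, neg_one_smul, neg_sub] at hc
        simpa using hc
      · exact hp (Submodule.mem_span_singleton.mpr ⟨(1 + c)⁻¹ * c, by
          rw [← smul_smul, show c • y = (1 + c) • p by linear_combination (norm := module) hc,
            smul_smul, inv_mul_cancel₀ e, one_smul]⟩)) (by omega)
    have hby : B b y = 1 := by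
      have := hbs 0
      rw [Matrix.cons_val_fin_one, sub_right hQ, hbp, sub_eq_zero] at this
      exact this
    obtain ⟨bW, hbW, hbU⟩ := exists_split (hQ := hQ) hW b
    refine ⟨b, hF1 b hbQ _ hbU (by rwa [sub_sub_cancel]) (fun h0 => ?_), hbp, hby⟩
    rw [sub_eq_zero.mp h0, (horth bW hbW y hy).1] at hby
    exact zero_ne_one hby
  obtain ⟨b, hbF, hbz, hby⟩ := key z (fun hm => by
    obtain ⟨c, hc⟩ := Submodule.mem_span_singleton.mp hm
    refine hz0 ?_
    by_contra hne
    obtain ⟨-, x', hx', hzx⟩ := hW z hzW hne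
    exact hzx (by rw [← hc, hb.smul_left, (horth x' hx' y hy).2, mul_zero]))
  obtain ⟨x, hxF, hxb, -⟩ := key b (fun hm => by
    obtain ⟨c, hc⟩ := Submodule.mem_span_singleton.mp hm
    rw [← hc, hb.smul_left, (horth z hzW y hy).2, mul_zero] at hbz
    exact zero_ne_one hbz)
  exact full_move hQ hbF hxF hz hxb (by rw [B_comm, hbz])

end Cfsg.Agent.Lib.OmegaTen.OrthNondeg
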