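import Cfsg.Agent.Lib.OmegaTen.OrthNondeg
import Cfsg.Agent.Lib.Subspaces.Decomposition

/-!
Maximality in `Ω` of stabilisers of non-degenerate subspaces.
-/

set_option autoImplicit false

namespace Cfsg.Agent.Lib.OmegaTen.OrthNondegMax

open Matrix Cfsg.Agent.Lib.Subspaces.Transvection Cfsg.Agent.Lib.Subspaces.FormVec
  Cfsg.Agent.Lib.Subspaces.OrthForm Cfsg.Agent.Lib.Subspaces.OmegaGL
  Cfsg.Agent.Lib.OmegaTen.OrthNondeg

variable {ι : Type} [Fintype ι] [DecidableEq ι] {F : Type*} [Field F] [Finite F]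
  {Q : (ι → F) → F}

local notation "B" => QuadraticMap.polar Q

variable {hQ : Cfsg.Geo.IsNondegenerateQuadraticForm Q}

theorem stab_le_stab_perp {W : Submodule F (ι → F)} :
    Cfsg.Geo.subspaceStabilizer W ⊓ Cfsg.Geo.omegaGL Q ≤
      Cfsg.Geo.subspaceStabilizer (perpQ hQ W) ⊓ Cfsg.Geo.omegaGL Q := by
  rintro g ⟨hg, hgΩ⟩
  refine ⟨mem_subspaceStabilizer_iff.mpr fun u hu w hw => ?_, hgΩ⟩
  rw [← gl_mulVec_inv g w, B_map (omega_isometry hQ hgΩ)]
  exact hu _ (mem_subspaceStabilizer_iff.mp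
    ((Cfsg.Geo.subspaceStabilizer W).inv_mem hg) w hw)

theorem stab_perp_eq (W : Submodule F (ι → F)) :
    Cfsg.Geo.subspaceStabilizer (perpQ hQ W) ⊓ Cfsg.Geo.omegaGL Q =
      Cfsg.Geo.subspaceStabilizer W ⊓ Cfsg.Geo.omegaGL Q := by
  refine le_antisymm ?_ stab_le_stab_perp
  have h := stab_le_stab_perp (hQ := hQ) (W := perpQ hQ W)
  rwa [perpQ_perpQ] at h

theorem exists_omega_move (hQ : Cfsg.Geo.IsNondegenerateQuadraticForm Q)
    (hn : 5 ≤ Fintype.card ι) {W : Submodule F (ι → F)} (hW0 : W ≠ ⊥)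
    (hW : Cfsg.Geo.IsNondegenerateOn B W) (hU : 3 ≤ Module.finrank F (perpQ hQ W)) :
    ∃ g ∈ Cfsg.Geo.omegaGL Q, g ∉ Cfsg.Geo.subspaceStabilizer W := by
  obtain ⟨u, huU, hu0, huQ⟩ := exists_singular_in hQ hU
  obtain ⟨x, hx, hx0⟩ := Submodule.exists_mem_ne_zero_of_ne_bot hW0
  obtain ⟨-, w, hw, hxw⟩ := hW x hx hx0
  have hwu : B w u = 0 := by rw [B_comm]; exact huU w hw
  refine ⟨_, sieg_mem_omega hQ hn huQ hwu, fun hmem => ?_⟩
  have h := mem_subspaceStabilizer_iff.mp hmem x hx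
  have hxu : B x u = 0 := by rw [B_comm]; exact huU x hx
  rw [sieg_mulVec hQ huQ hwu, hxu, zero_smul, add_zero, mul_zero, sub_zero] at h
  have h2 : u ∈ W := by
    have := W.smul_mem (-(B x w))⁻¹ (W.sub_mem h hx)
    rwa [add_sub_cancel_left, smul_smul, inv_mul_cancel₀ (neg_ne_zero.mpr hxw), one_smul] at this
  obtain ⟨-, y, hy, hy'⟩ := hW u h2 hu0
  exact hy' (huU y hy)

theorem finrank_le_of_map {g : GL ι F} {U W : Submodule F (ι → F)}
    (h : ∀ u ∈ U, (g : Matrix ι ι F) *ᵥ u ∈ W) : Module.finrank F U ≤ Module.finrank F W :=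
  Cfsg.Agent.Lib.Subspaces.Decomposition.finrank_le_of_mapsTo h

/-- An isometry carrying `U` into a subspace of the same dimension makes the two isometric. -/
theorem isometric_of_map {g : GL ι F} {U W : Submodule F (ι → F)}
    (hiso : ∀ x, Q ((g : Matrix ι ι F) *ᵥ x) = Q x)
    (h : ∀ u ∈ U, (g : Matrix ι ι F) *ᵥ u ∈ W)
    (hd : Module.finrank F W ≤ Module.finrank F U) : Cfsg.Geo.AreIsometricFor Q U W := by
  let f : U →ₗ[F] W :=
    ((Matrix.mulVecLin (g : Matrix ι ι F)).comp U.subtype).codRestrict W fun u => h u u.2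
  have hinj : Function.Injective f := fun a b hab => Subtype.ext
    (gl_mulVec_injective g (congrArg (fun z : W => (z : ι → F)) hab))
  refine ⟨LinearMap.linearEquivOfInjective f hinj
    (le_antisymm (LinearMap.finrank_le_finrank_of_injective hinj) hd), fun w => ?_⟩
  exact hiso w

theorem maximal_of_le (hQ : Cfsg.Geo.IsNondegenerateQuadraticForm Q) (hn : 9 < Fintype.card ι)
    {W : Submodule F (ι → F)} (hW0 : W ≠ ⊥) (hW : Cfsg.Geo.IsNondegenerateOn B W)
    (hle : 2 * Module.finrank F W ≤ Fintype.card ι)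
    (h2 : Module.finrank F W = 5 → Fintype.card ι = 10 → (2 : F) ≠ 0)
    (hex : ¬ (Nat.card F ≤ 3 ∧ Module.finrank F W = 2 ∧ ∃ e ∈ W, e ≠ 0 ∧ Q e = 0))
    (hni : 2 * Module.finrank F W = Fintype.card ι →
      ¬ Cfsg.Geo.AreIsometricFor Q (perpQ hQ W) W) :
    Cfsg.Geo.IsMaximalIn (Cfsg.Geo.omegaGL Q)
      (Cfsg.Geo.subspaceStabilizer W ⊓ Cfsg.Geo.omegaGL Q) := by
  have hdim := finrank_add_perpQ (hQ := hQ) hW
  refine isMaximalIn_of inf_le_right ?_ fun M hHM hMK g hgM hgH => ?_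
  · obtain ⟨g, hg, hg'⟩ := exists_omega_move hQ (by omega) hW0 hW (by omega)
    exact ⟨g, hg, fun h => hg' h.1⟩
  have h26 : 6 ≤ Module.finrank F (perpQ hQ W) ∨ (2 : F) ≠ 0 := by
    by_cases h : Module.finrank F W = 5 ∧ Fintype.card ι = 10
    · exact Or.inr (h2 h.1 h.2)
    · exact Or.inl (by omega)
  refine omega_le_of_nondeg hQ hn hW0 hW hle h26 hex hMK (fun h hh hmap => ?_)
    (fun h h1 h2 => hHM ⟨h1, h2⟩) hgM fun h => hgH ⟨h, hMK hgM⟩
  have h1 := finrank_le_of_map hmap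
  exact hni (by omega) (isometric_of_map (omega_isometry hQ (hMK hh)) hmap (by omega))

/-- The stabiliser of a non-degenerate proper subspace is maximal, up to the exceptions. -/
theorem maximal_nondeg (hQ : Cfsg.Geo.IsNondegenerateQuadraticForm Q) (hn : 9 < Fintype.card ι)
    {W : Submodule F (ι → F)} (hW0 : W ≠ ⊥) (hW1 : W ≠ ⊤) (hW : Cfsg.Geo.IsNondegenerateOn B W)
    (h2 : Module.finrank F W = 5 → Fintype.card ι = 10 → (2 : F) ≠ 0)
    (hex : ¬ (Nat.card F ≤ 3 ∧ Module.finrank F W = 2 ∧ ∃ e ∈ W, e ≠ 0 ∧ Q e = 0))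
    (hex' : ¬ (Nat.card F ≤ 3 ∧ Module.finrank F (perpQ hQ W) = 2 ∧
      ∃ e ∈ perpQ hQ W, e ≠ 0 ∧ Q e = 0))
    (hni : 2 * Module.finrank F W = Fintype.card ι →
      ¬ Cfsg.Geo.AreIsometricFor Q (perpQ hQ W) W) :
    Cfsg.Geo.IsMaximalIn (Cfsg.Geo.omegaGL Q)
      (Cfsg.Geo.subspaceStabilizer W ⊓ Cfsg.Geo.omegaGL Q) := by
  by_cases hle : 2 * Module.finrank F W ≤ Fintype.card ι
  · exact maximal_of_le hQ hn hW0 hW hle h2 hex hni
  have hdim := finrank_add_perpQ (hQ := hQ) hW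
  have hlt := Submodule.finrank_lt (lt_top_iff_ne_top.mpr hW1).ne
  rw [Module.finrank_fintype_fun_eq_card] at hlt
  rw [← stab_perp_eq (hQ := hQ) W]
  refine maximal_of_le hQ hn (fun h => ?_) (perpQ_nondeg hW) (by omega)
    (fun a b => h2 (by omega) b) hex' (fun h => ?_)
  · rw [h, finrank_bot] at hdim
    omega
  · omega

/-- A vector with non-zero norm can be split off a non-degenerate subspace. -/
theorem split_vec (hQ : Cfsg.Geo.IsNondegenerateQuadraticForm Q) (h2 : (2 : F) ≠ 0)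
    {U : Submodule F (ι → F)} (hU : Cfsg.Geo.IsNondegenerateOn B U) {v : ι → F} (hv : v ∈ U)
    (hvQ : Q v ≠ 0) :
    Cfsg.Geo.IsNondegenerateOn B (U ⊓ perpQ hQ (Submodule.span F {v}) : Submodule F (ι → F)) ∧
      Module.finrank F ↥(U ⊓ perpQ hQ (Submodule.span F {v})) + 1 = Module.finrank F U := by
  have hb := hQ.polar_bilinear
  have hvv : B v v ≠ 0 := by rw [B_self hQ]; exact mul_ne_zero h2 hvQ
  have hv0 : v ≠ 0 := fun h => hvQ (by rw [h, Q_zero hQ])
  refine ⟨?_, ?_⟩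
  · rintro u ⟨huU, huv⟩ hu0
    obtain ⟨-, y, hy, huy⟩ := hU u huU hu0
    have huv' : B u v = 0 := huv v (Submodule.mem_span_singleton_self v)
    set y' := y - (B y v / B v v) • v with hy'
    have hy'm : y' ∈ U ⊓ perpQ hQ (Submodule.span F {v}) := by
      refine ⟨U.sub_mem hy (U.smul_mem _ hv), fun w hw => ?_⟩
      obtain ⟨c, rfl⟩ := Submodule.mem_span_singleton.mp hw
      rw [hb.smul_right, hy', form_sub_left (bil hQ), hb.smul_left, div_mul_cancel₀ _ hvv,
        sub_self, mul_zero]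
    have h : B u y' ≠ 0 := by rwa [hy', sub_right hQ, hb.smul_right, huv', mul_zero, sub_zero]
    exact ⟨⟨y', hy'm, by rwa [B_comm]⟩, y', hy'm, h⟩
  · have h1 := inf_perp_ge (hQ := hQ) U (Submodule.span F {v})
    rw [finrank_span_singleton hv0] at h1
    have h3 := Submodule.finrank_lt_finrank_of_lt (lt_of_le_of_ne
      (inf_le_left : U ⊓ perpQ hQ (Submodule.span F {v}) ≤ U)
      fun h => hvv ((h.symm ▸ hv : v ∈ U ⊓ perpQ hQ (Submodule.span F {v})).2 v
        (Submodule.mem_span_singleton_self v)))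
    omega

theorem exists_anisotropic_on (hQ : Cfsg.Geo.IsNondegenerateQuadraticForm Q)
    {U : Submodule F (ι → F)} (hU : Cfsg.Geo.IsNondegenerateOn B U) (h0 : U ≠ ⊥) :
    ∃ v ∈ U, Q v ≠ 0 := by
  by_contra h
  push Not at h
  obtain ⟨x, hx, hx0⟩ := Submodule.exists_mem_ne_zero_of_ne_bot h0
  obtain ⟨-, y, hy, hxy⟩ := hU x hx hx0
  exact hxy (by rw [QuadraticMap.polar, h _ (U.add_mem hx hy), h x hx, h y hy]; ring)

/-- An even-dimensional non-degenerate space admits an anti-isometry. -/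
theorem exists_anti (hQ : Cfsg.Geo.IsNondegenerateQuadraticForm Q) (h2 : (2 : F) ≠ 0) :
    ∀ (d : ℕ) (U : Submodule F (ι → F)), Cfsg.Geo.IsNondegenerateOn B U →
      Module.finrank F U = 2 * d →
      ∃ J : (ι → F) →ₗ[F] (ι → F), ∀ u ∈ U, J u ∈ U ∧ Q (J u) = -Q u := by
  have hb := hQ.polar_bilinear
  intro d
  induction d with
  | zero =>
    intro U _ hd
    refine ⟨0, fun u hu => ?_⟩
    have hbot : U = ⊥ := Submodule.finrank_eq_zero.mp (by omega)
    rw [hbot, Submodule.mem_bot] at hu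
    simp [hu, Q_zero hQ]
  | succ d ih =>
    intro U hU hd
    obtain ⟨v, hv, hvQ⟩ := exists_anisotropic_on hQ hU
      (fun h => by rw [h, finrank_bot] at hd; omega)
    obtain ⟨hR0, hR0d⟩ := split_vec hQ h2 hU hv hvQ
    set R0 := U ⊓ perpQ hQ (Submodule.span F {v})
    obtain ⟨v2, hv2, hv2Q⟩ := exists_anisotropic_on hQ hR0
      (fun h => by rw [h, finrank_bot] at hR0d; omega)
    obtain ⟨hR, hRd⟩ := split_vec hQ h2 hR0 hv2 hv2Q
    set R := R0 ⊓ perpQ hQ (Submodule.span F {v2})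
    obtain ⟨J, hJ⟩ := ih R hR (by omega)
    set c := Q v2 / Q v with hc
    have : Fintype F := Fintype.ofFinite F
    have hc0 : c ≠ 0 := div_ne_zero hv2Q hvQ
    have hg : (Polynomial.C c * Polynomial.X ^ 2 + Polynomial.C 1).degree = 2 := by
      have h : (Polynomial.C c * Polynomial.X ^ 2).degree = 2 := by
        rw [Polynomial.degree_C_mul hc0, Polynomial.degree_X_pow]; rfl
      rw [Polynomial.degree_add_C (by rw [h]; norm_num), h]
    obtain ⟨a, b, hab⟩ := FiniteField.exists_root_sum_quadratic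
      (f := (Polynomial.X ^ 2 : Polynomial F)) (Polynomial.degree_X_pow 2) hg
      (by
        apply FiniteField.odd_card_of_char_ne_two
        intro h
        have : CharP F 2 := h ▸ ringChar.charP F
        exact h2 (CharTwo.two_eq_zero))
    simp only [Polynomial.eval_pow, Polynomial.eval_X, Polynomial.eval_add, Polynomial.eval_mul,
      Polynomial.eval_C] at hab
    let α : (ι → F) →ₗ[F] F :=
      { toFun := fun x => (B v v)⁻¹ * B x v
        map_add' := fun x y => by rw [hb.add_left, mul_add]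
        map_smul' := fun k x => by
          rw [hb.smul_left, RingHom.id_apply, smul_eq_mul, mul_left_comm] }
    let β : (ι → F) →ₗ[F] F :=
      { toFun := fun x => (B v2 v2)⁻¹ * B x v2
        map_add' := fun x y => by rw [hb.add_left, mul_add]
        map_smul' := fun k x => by
          rw [hb.smul_left, RingHom.id_apply, smul_eq_mul, mul_left_comm] }
    refine ⟨α.smulRight (a • v + b • v2) + β.smulRight ((-(b * c)) • v + a • v2) +
      J.comp (LinearMap.id - α.smulRight v - β.smulRight v2), fun x hx => ?_⟩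
    simp only [LinearMap.add_apply, LinearMap.smulRight_apply, LinearMap.comp_apply,
      LinearMap.sub_apply, LinearMap.id_apply]
    set p := α x
    set r := β x
    set xR := x - p • v - r • v2 with hxR
    have hvv : B v v ≠ 0 := by rw [B_self hQ]; exact mul_ne_zero h2 hvQ
    have hvv2 : B v2 v2 ≠ 0 := by rw [B_self hQ]; exact mul_ne_zero h2 hv2Q
    have hv2v : B v2 v = 0 := hv2.2 v (Submodule.mem_span_singleton_self v)
    have h1 : B xR v = 0 := by
      rw [hxR, form_sub_left (bil hQ), form_sub_left (bil hQ), hb.smul_left, hb.smul_left, hv2v,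
        mul_zero, sub_zero, show p = (B v v)⁻¹ * B x v from rfl]
      field_simp
      ring
    have h3 : B xR v2 = 0 := by
      rw [hxR, form_sub_left (bil hQ), form_sub_left (bil hQ), hb.smul_left, hb.smul_left,
        B_comm v v2, hv2v, mul_zero, sub_zero, show r = (B v2 v2)⁻¹ * B x v2 from rfl]
      field_simp
      ring
    have hperp : ∀ {z w : ι → F}, B z w = 0 → z ∈ perpQ hQ (Submodule.span F {w}) :=
      fun {z w} h y hy => by
        obtain ⟨k, rfl⟩ := Submodule.mem_span_singleton.mp hy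
        rw [hb.smul_right, h, mul_zero]
    have hxRU : xR ∈ U := U.sub_mem (U.sub_mem hx (U.smul_mem _ hv)) (U.smul_mem _ hv2.1)
    have hxRR : xR ∈ R := ⟨⟨hxRU, hperp h1⟩, hperp h3⟩
    obtain ⟨⟨⟨hJU, hJv⟩, hJv2⟩, hJQ⟩ := hJ xR hxRR
    have e1 : B (J xR) v = 0 := hJv v (Submodule.mem_span_singleton_self v)
    have e2 : B (J xR) v2 = 0 := hJv2 v2 (Submodule.mem_span_singleton_self v2)
    refine ⟨U.add_mem (U.add_mem (U.smul_mem _ (U.add_mem (U.smul_mem _ hv) (U.smul_mem _ hv2.1)))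
      (U.smul_mem _ (U.add_mem (U.smul_mem _ hv) (U.smul_mem _ hv2.1)))) hJU, ?_⟩
    have hQc : ∀ (s t : F) (z : ι → F), B z v = 0 → B z v2 = 0 →
        Q (s • v + t • v2 + z) = s ^ 2 * Q v + t ^ 2 * Q v2 + Q z := by
      intro s t z hz1 hz2
      rw [Q_add (Q := Q), Q_add (Q := Q), hQ.smul, hQ.smul, hb.add_left, hb.smul_left,
        hb.smul_left, hb.smul_left, hb.smul_right, B_comm v v2, hv2v, B_comm v z, hz1,
        B_comm v2 z, hz2]
      ring
    have hx' : x = p • v + r • v2 + xR := by rw [hxR]; module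
    have hsum : p • (a • v + b • v2) + r • (-(b * c) • v + a • v2) + J xR =
        (p * a - r * (b * c)) • v + (p * b + r * a) • v2 + J xR := by module
    rw [hsum, hQc _ _ _ e1 e2, hJQ, hx', hQc _ _ _ h1 h3]
    have hQv2 : Q v2 = c * Q v := by rw [hc, div_mul_cancel₀ _ hvQ]
    rw [hQv2]
    linear_combination (p ^ 2 + c * r ^ 2) * Q v * hab

/-- A space split into two isometric orthogonal halves of even dimension is of plus type. -/
theorem plus_of_isometric (hQ : Cfsg.Geo.IsNondegenerateQuadraticForm Q)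
    {W : Submodule F (ι → F)} (hW : Cfsg.Geo.IsNondegenerateOn B W)
    (hk : 2 * Module.finrank F W = Fintype.card ι) (hke : Even (Module.finrank F W))
    (hiso : Cfsg.Geo.AreIsometricFor Q (perpQ hQ W) W) : Cfsg.Geo.IsPlusTypeOn Q ⊤ := by
  have hb := hQ.polar_bilinear
  have hdim := finrank_add_perpQ (hQ := hQ) hW
  set U := perpQ hQ W with hUdef
  obtain ⟨e, he⟩ := hiso
  have hUn : Cfsg.Geo.IsNondegenerateOn B U := perpQ_nondeg hW
  obtain ⟨J, hJ⟩ : ∃ J : (ι → F) →ₗ[F] (ι → F), ∀ u ∈ U, J u ∈ U ∧ Q (J u) = -Q u := by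
    by_cases h2 : (2 : F) = 0
    · exact ⟨LinearMap.id, fun u hu => ⟨hu, by
        rw [LinearMap.id_apply]; linear_combination Q u * h2⟩⟩
    · obtain ⟨d, hd⟩ := hke
      exact exists_anti hQ h2 d U hUn (by omega)
  let f : U →ₗ[F] (ι → F) := U.subtype + (W.subtype.comp e.toLinearMap).comp
    ((J.comp U.subtype).codRestrict U fun u => (hJ u u.2).1)
  have hinj : Function.Injective f := by
    rw [← LinearMap.ker_eq_bot, eq_bot_iff]
    intro u hu
    rw [Submodule.mem_bot]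
    by_contra h0
    obtain ⟨-, y, hy, huy⟩ := hUn u u.2 (fun h => h0 (Subtype.ext h))
    have heq : (u : ι → F) = -((e ⟨J u, (hJ u u.2).1⟩ : W) : ι → F) :=
      eq_neg_of_add_eq_zero_left hu
    apply huy
    rw [B_comm]
    exact hy _ (heq ▸ W.neg_mem (e ⟨J u, (hJ u u.2).1⟩).2)
  refine ⟨LinearMap.range f, le_top, ?_, ?_⟩
  · rintro _ ⟨u, rfl⟩
    show Q ((u : ι → F) + ((e ⟨J u, (hJ u u.2).1⟩ : W) : ι → F)) = 0
    rw [Q_add (Q := Q), he]
    have h1 : Q (J (u : ι → F)) = -Q (u : ι → F) := (hJ u u.2).2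
    have h2 := u.2 _ (e ⟨J u, (hJ u u.2).1⟩).2
    show Q (u : ι → F) + Q (J u) + _ = 0
    linear_combination h1 + h2
  · rw [LinearMap.finrank_range_of_inj hinj, finrank_top, Module.finrank_fintype_fun_eq_card]
    omega

theorem plus_of_singular {W : Submodule F (ι → F)} (hQ : Cfsg.Geo.IsNondegenerateQuadraticForm Q)
    (hd : Module.finrank F W = 2) {e : ι → F} (he : e ∈ W) (he0 : e ≠ 0) (heQ : Q e = 0) :
    Cfsg.Geo.IsPlusTypeOn Q W := by
  refine ⟨Submodule.span F {e}, (Submodule.span_singleton_le_iff_mem _ _).mpr he, fun w hw => ?_, ?_⟩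
  · obtain ⟨c, rfl⟩ := Submodule.mem_span_singleton.mp hw
    rw [hQ.smul, heQ, mul_zero]
  · rw [finrank_span_singleton he0, hd]

end Cfsg.Agent.Lib.OmegaTen.OrthNondegMax
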