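import Cfsg.Agent.Lib.OmegaTen.OrthHerm2

/-!
A quadratic form for which a quadratic extension acts by similitudes, adjoints inducing the
non-trivial automorphism: it comes from a hermitian form.
Owner: helper41.
-/
set_option autoImplicit false
set_option linter.unusedSectionVars false
set_option linter.style.haveILetI false

namespace Cfsg.Agent.Lib.OmegaTen.OrthHerm2

open Module Cfsg.Agent.Lib.ExtFieldMax Cfsg.Agent.Lib.K41.ExtForm

variable {F K V : Type*} [Field F] [Field K] [Algebra F K] [AddCommGroup V] [Module F V]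
  [Module K V] [IsScalarTower F K V] [Finite F] [Finite K] [Finite V]

/-- The hypotheses. -/
structure Data (F K V : Type*) [Field F] [Field K] [Algebra F K] [AddCommGroup V] [Module F V]
    [Module K V] where
  Q : V → F
  f : V →ₗ[F] V →ₗ[F] F
  polar : ∀ x y, f x y = Q (x + y) - Q x - Q y
  smul : ∀ (a : F) (x : V), Q (a • x) = a ^ 2 * Q x
  nondeg : ∀ x, (∀ y, f x y = 0) → x = 0
  adjoint : ∀ c : K, ∃ d : K, ∀ x y, f (c • x) y = f x (d • y)
  not_selfAdjoint : ¬ ∀ (c : K) x y, f (c • x) y = f x (c • y)
  scale : ∀ c : K, ∃ a : F, ∀ v, Q (c • v) = a * Q v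
  degree : finrank F K = 2
  dim : 10 ≤ finrank F V

theorem Data.exists_setting (D : Data F K V) (M : Subgroup (V ≃ₗ[F] V))
    (hiso : ∀ g ∈ M, ∀ x, D.Q (g x) = D.Q x)
    (hsieg : ∀ (e w : V) (g : V ≃ₗ[F] V), D.Q e = 0 → D.f w e = 0 →
      (∀ z, g z = sfun (fun x y => D.f x y) D.Q e w z) →
      (∀ (c : K) z, g (c • z) = c • g z) → g ∈ M)
    (hroot : ∀ (e w : V), D.Q e = 0 → D.f w e = 0 →
      ∃ g : V ≃ₗ[F] V, ∀ z, g z = sfun (fun x y => D.f x y) D.Q e w z) :
    ∃ S : Setting F K V, S.M = M ∧ S.Q = D.Q ∧ ∀ x y, S.B x y = D.f x y := by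
  classical
  haveI : FiniteDimensional F K := Module.Finite.of_finite
  obtain ⟨Q, f, hpol, hsm, hnd, hadj, hnsa, hsc, hfr, hdim⟩ := D
  dsimp only at hiso hsieg hroot ⊢
  have hr2 : (finrank F K).Prime := hfr.symm ▸ Nat.prime_two
  have hfs : ∀ x y, f x y = f y x := fun x y => by rw [hpol, hpol, add_comm x y]; ring
  choose t ht using hadj
  have huniq : ∀ c d : K, (∀ x y, f (c • x) y = f x (d • y)) → t c = d := fun c d h => by
    by_contra hne
    haveI : Nontrivial V := Module.nontrivial_of_finrank_pos (R := F) (show 0 < finrank F V by omega)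
    obtain ⟨y, hy⟩ := exists_ne (0 : V)
    refine hne (smul_left_injective K hy ?_)
    show t c • y = d • y
    rw [← sub_eq_zero]
    refine hnd _ fun x => ?_
    rw [map_sub, LinearMap.sub_apply, hfs (t c • y), hfs (d • y), ← ht c x y, h, sub_self]
  have htt : ∀ c, t (t c) = c := fun c => huniq _ _ fun x y => by rw [hfs, ← ht c, ← hfs]
  let T : K →ₐ[F] K :=
    { toFun := t
      map_one' := huniq _ _ fun x y => by rw [one_smul, one_smul]
      map_mul' := fun a b => huniq _ _ fun x y => by rw [mul_smul, ht, ht, smul_smul, mul_comm]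
      map_zero' := huniq _ _ fun x y => by
        rw [zero_smul, zero_smul, map_zero, map_zero, LinearMap.zero_apply]
      map_add' := fun a b => huniq _ _ fun x y => by
        rw [add_smul, map_add, LinearMap.add_apply, ht, ht, add_smul, map_add]
      commutes' := fun a => huniq _ _ fun x y => by
        rw [algebraMap_smul, algebraMap_smul, map_smul, LinearMap.smul_apply, map_smul] }
  let τ : K ≃ₐ[F] K := AlgEquiv.ofBijective T ⟨T.toRingHom.injective,
    Finite.injective_iff_surjective.1 T.toRingHom.injective⟩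
  have hτ : ∀ c, τ c = t c := fun c => rfl
  have hτ1 : τ ≠ 1 := by
    intro h
    refine hnsa fun c x y => ?_
    have h1 := ht c x y
    rw [← hτ, h] at h1
    exact h1
  have hττ : ∀ x, τ (τ x) = x := fun x => by rw [hτ, hτ, htt]
  obtain ⟨θ, hθ⟩ := exists_moved hr2 hτ1
  have huniv : (Finset.univ : Finset (K ≃ₐ[F] K)) = {1, τ} := by
    refine (Finset.eq_univ_of_card _ ?_).symm
    rw [Finset.card_pair (Ne.symm hτ1), ← Nat.card_eq_fintype_card, IsGalois.card_aut_eq_finrank, hfr]
  have htrace : ∀ x : K, algebraMap F K (Algebra.trace F K x) = x + τ x := fun x => by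
    rw [trace_eq_sum_automorphisms, huniv, Finset.sum_pair (Ne.symm hτ1)]; rfl
  have hmult : ∀ (a : K) (c : F), (∀ v, Q (a • v) = c * Q v) → a * τ a = algebraMap F K c := by
    intro a c hc
    rw [mul_comm, hτ]
    haveI : Nontrivial V := Module.nontrivial_of_finrank_pos (R := F) (show 0 < finrank F V by omega)
    obtain ⟨y, hy⟩ := exists_ne (0 : V)
    refine smul_left_injective K hy ?_
    show (t a * a) • y = algebraMap F K c • y
    rw [← sub_eq_zero]
    refine hnd _ fun x => ?_
    rw [map_sub, LinearMap.sub_apply, hfs ((t a * a) • y), hfs (algebraMap F K c • y), algebraMap_smul,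
      map_smul (f x) c, mul_smul, ← ht a x (a • y), hpol, hpol, ← smul_add, hc, hc, hc, smul_eq_mul]
    ring
  have hQh : ∀ x, algebraMap F K (Q x) = liftForm f x x := fun x => trace_ext (F := F) fun a => by
    obtain ⟨c, hc⟩ := hsc a
    obtain ⟨c1, hc1⟩ := hsc (a + 1)
    have e1 := hmult a c hc
    have e2 := hmult (a + 1) c1 hc1
    have e3 : Algebra.trace F K a = c1 - c - 1 := (algebraMap F K).injective (by
      rw [htrace, map_sub, map_sub, map_one, ← e1, ← e2, map_add, map_one]; ring)
    rw [trace_liftForm, ← Algebra.commutes, ← Algebra.smul_def, map_smul, e3, hpol,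
      show a • x + x = (a + 1) • x by rw [add_smul, one_smul], hc1, hc, smul_eq_mul]
    ring
  have hsing : ∀ (e : V) (c : K), Q e = 0 → Q (c • e) = 0 := fun e c he => by
    obtain ⟨a, ha⟩ := hsc c
    rw [ha, he, mul_zero]
  refine ⟨{ τ := τ, θ := θ, h := liftForm f, Q := Q, M := M
            θ_moved := hθ
            tau_tau := hττ
            fixed := fun x hx => mem_range_of_fixed hr2 hτ1 hx
            trace_eq := htrace
            norm_surj := ?_
            add_left := liftForm_add_left f
            smul_left := liftForm_smul_left f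
            add_right := liftForm_add_right f
            smul_right := ?_
            herm := ?_
            nondeg := fun x h => hnd x fun y => by rw [← trace_liftForm_one (K := K), h, map_zero]
            hQ := hQh
            iso := ?_
            isoQ := hiso
            root_mem := ?_
            dim := ?_ }, rfl, rfl, fun x y => trace_liftForm_one f x y⟩
  · intro a
    by_cases ha : a = 0
    · exact ⟨0, by rw [ha, zero_mul, map_zero]⟩
    obtain ⟨β, hβ⟩ := FiniteField.unitsMap_norm_surjective F K (Units.mk0 a ha)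
    refine ⟨β, ?_⟩
    have h1 : Algebra.norm F (β : K) = a := congrArg Units.val hβ
    rw [← h1, Algebra.norm_eq_prod_automorphisms, huniv, Finset.prod_pair (Ne.symm hτ1)]
    rfl
  · exact fun c x z => trace_ext (F := F) fun a => by
      rw [← mul_assoc, trace_liftForm, trace_liftForm, mul_comm a, hτ c, mul_smul, ht (t c), htt]
  · exact fun x y => trace_ext (F := F) fun a => by
      rw [trace_liftForm, ← Algebra.trace_eq_of_algEquiv τ, map_mul, hττ, trace_liftForm, hτ, hfs,
        ht (t a), htt]
  · intro g hg x y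
    rw [trace_liftForm_one, trace_liftForm_one, hpol, hpol, ← map_add, hiso g hg, hiso g hg, hiso g hg]
  · intro e s he
    have hQw : Q (θ • e) = 0 := hsing e θ he
    have hw : f (s • θ • e) e = 0 := by
      rw [map_smul, LinearMap.smul_apply, hpol, hQw, he,
        show θ • e + e = (θ + 1) • e by rw [add_smul, one_smul], hsing e _ he, sub_zero, sub_zero,
        smul_zero]
    obtain ⟨g, hg⟩ := hroot e (s • θ • e) he hw
    have hval : ∀ z, g z = z + (algebraMap F K s * (θ - τ θ) * liftForm f z e) • e := fun z => by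
      rw [hg, sfun]
      beta_reduce
      rw [hsm, hQw, mul_zero, zero_mul, sub_zero, map_smul, smul_eq_mul, add_assoc,
        ← algebraMap_smul K (f z e), ← algebraMap_smul K (-(s * f z (θ • e))),
        ← algebraMap_smul K s (θ • e), smul_smul, smul_smul, ← add_smul]
      congr 2
      have h1 : algebraMap F K (f z e) = liftForm f z e + τ (liftForm f z e) := by
        rw [← htrace, trace_liftForm_one]
      have h2 : algebraMap F K (f z (θ • e)) = τ θ * liftForm f z e + τ (τ θ * liftForm f z e) := by
        rw [← htrace, trace_liftForm, hτ θ]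
        congr 1
        rw [hfs, ht θ, hfs]
      rw [map_neg, map_mul, h1, h2, map_mul, hττ]
      ring
    refine ⟨g, hsieg e _ g he hw hg fun c z => ?_, hval⟩
    rw [hval, hval, liftForm_smul_left, smul_add, smul_smul]
    congr 2
    ring
  · have h := Module.finrank_mul_finrank F K V
    rw [hfr] at h
    omega

/-- A Siegel map that is not semilinear. -/
theorem Setting.exists_nonsemi (S : Setting F K V) :
    ∃ e y : V, S.Q e = 0 ∧ S.B y e = 0 ∧
      ∀ g : V ≃ₗ[F] V, (∀ z, g z = sfun S.B S.Q e y z) → ¬ IsSemi F K g := by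
  obtain ⟨e, -, heQ, he0, -⟩ := S.exists_sing_perp_one 0
  obtain ⟨y, hey, -, -, hy⟩ := S.exists_sing_perp_one e
  have hye : S.B y e = 0 := by rw [S.B_comm]; exact S.B_zero_of_h hey
  refine ⟨e, y, heQ, hye, fun g hg hsemi => ?_⟩
  obtain ⟨x, hx⟩ := S.exists_indep e e
  obtain ⟨α, hα⟩ := S.exists_trace (1 : F)
  obtain ⟨z, hez, -, -⟩ := S.exists_sing_two (x := e) (w := x) he0
    (fun c h => hx c 0 (by rw [zero_smul, add_zero]; exact h)) α 0
  have hBz : S.B z e = 1 :=
    (algebraMap F K).injective (by rw [S.B_comm, S.B_eq, hez, hα])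
  refine S.θ_moved ?_
  obtain ⟨d, hd⟩ := hsemi S.θ
  have hee : ∀ a : K, g (a • e) = a • e := fun a => by
    rw [hg, sfun, S.B_zero_of_h (by rw [S.smul_left, S.h_self_eq_zero.2 heQ, mul_zero]),
      S.B_zero_of_h (by rw [S.smul_left, hey, mul_zero])]
    simp
  have hdθ : d = S.θ := by
    have h1 := hd e
    rw [hee] at h1
    have h2 := hee 1
    rw [one_smul] at h2
    rw [h2] at h1
    exact (smul_left_injective K he0 h1).symm
  have h1 := hd z
  rw [hdθ, hg, hg, sfun, sfun, hBz, smul_add, smul_add, one_smul, add_assoc, add_assoc, add_right_inj,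
    ← algebraMap_smul K (S.B (S.θ • z) e), ← algebraMap_smul K (_ - _ : F) e,
    ← algebraMap_smul K (_ - _ * 1 : F) e, smul_smul] at h1
  by_contra hmove
  set p := algebraMap F K (S.B (S.θ • z) e)
  have hp : p - S.θ ≠ 0 := fun h0 => hmove (by
    rw [show S.θ = p from (sub_eq_zero.1 h0).symm]; exact AlgEquiv.commutes _ _)
  refine hy ((p - S.θ)⁻¹ * (S.θ * algebraMap F K (-S.B z y - S.Q y * 1) -
    algebraMap F K (-S.B (S.θ • z) y - S.Q y * S.B (S.θ • z) e))) ?_
  rw [mul_smul, eq_inv_smul_iff₀ hp, sub_smul, sub_smul,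
    sub_eq_sub_iff_add_eq_add, h1, add_comm]

end Cfsg.Agent.Lib.OmegaTen.OrthHerm2
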