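import Cfsg.Agent.Lib.Subspaces.OrthNondeg

set_option autoImplicit false
/-! The stabiliser of a non-singular point in even characteristic. -/

namespace Cfsg.Agent.Lib.OmegaTen.VecEven

open Matrix Cfsg.Agent.Lib.Subspaces.Transvection Cfsg.Agent.Lib.Subspaces.FormVec
  Cfsg.Agent.Lib.Subspaces.OrthForm Cfsg.Agent.Lib.Subspaces.OrthLines
  Cfsg.Agent.Lib.Subspaces.OmegaGL Cfsg.Agent.Lib.Subspaces.OrthSingular
  Cfsg.Agent.Lib.Subspaces.OrthNondeg

variable {ι : Type} [Fintype ι] [DecidableEq ι] {F : Type*} [Field F] [Finite F]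
  {Q : (ι → F) → F} {M : Subgroup (GL ι F)}

local notation "B" => QuadraticMap.polar Q

theorem exists_singular_shift (hQ : Cfsg.Geo.IsNondegenerateQuadraticForm Q) (h2 : (2 : F) = 0)
    {v : ι → F} (hv : Q v ≠ 0) {t : ι → F} (ht : B t v = 0) :
    ∃ c : F, Q (t + c • v) = 0 ∧ c ^ 2 = -Q t / Q v := by
  have : Fintype F := Fintype.ofFinite F
  have hc : ringChar F = 2 := by
    have : CharP F 2 := CharTwo.of_one_ne_zero_of_two_eq_zero one_ne_zero h2
    exact ringChar.eq F 2
  obtain ⟨a, ha⟩ := FiniteField.isSquare_of_char_two hc (-Q t / Q v)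
  refine ⟨a, ?_, by rw [pow_two, ← ha]⟩
  rw [Q_add_smul hQ, ht, mul_zero, add_zero, pow_two, ← ha, div_mul_cancel₀ _ hv, add_neg_cancel]

theorem omega_le_of_point (hQ : Cfsg.Geo.IsNondegenerateQuadraticForm Q)
    (hn : 9 < Fintype.card ι) (h2 : (2 : F) = 0) {v : ι → F} (hv : Q v ≠ 0)
    (hMS : M ≤ Cfsg.Geo.omegaGL Q)
    (hP : ∀ g : GL ι F, g ∈ Cfsg.Geo.subspaceStabilizer (Submodule.span F {v}) →
      g ∈ Cfsg.Geo.omegaGL Q → g ∈ M)
    {g : GL ι F} (hgM : g ∈ M) (hg : g ∉ Cfsg.Geo.subspaceStabilizer (Submodule.span F {v})) :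
    Cfsg.Geo.omegaGL Q ≤ M := by
  have hb := hQ.polar_bilinear
  have hn5 : 5 ≤ Fintype.card ι := by omega
  have hv0 : v ≠ 0 := fun h => hv (by rw [h, Q_zero hQ])
  have hvv : B v v = 0 := by rw [B_self hQ, h2, zero_mul]
  -- Siegel elements fixing `v`
  have hbase : ∀ u w, Q u = 0 → B u v = 0 → B w v = 0 → B w u = 0 → sieg Q u w ∈ M := by
    intro u w huQ huv hwv hwu
    refine hP _ (mem_subspaceStabilizer_iff.mpr fun x hx => ?_) (sieg_mem_omega hQ hn5 huQ hwu)
    obtain ⟨c, rfl⟩ := Submodule.mem_span_singleton.mp hx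
    rw [sieg_mulVec hQ huQ hwu, hb.smul_left, hb.smul_left, B_comm v u, huv, B_comm v w, hwv]
    simpa using Submodule.smul_mem _ c (Submodule.mem_span_singleton_self v)
  -- one full centre orthogonal to `v`
  set v' := (g : Matrix ι ι F) *ᵥ v with hv'
  have hiso := omega_isometry hQ (hMS hgM)
  have hv'v : v' ∉ Submodule.span F {v} := fun h => hg (mem_subspaceStabilizer_iff.mpr fun x hx => by
    obtain ⟨c, rfl⟩ := Submodule.mem_span_singleton.mp hx
    rw [mulVec_smul]
    exact Submodule.smul_mem _ c h)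
  obtain ⟨u, hu, huV, huQ⟩ := exists_singular_avoid hQ
    (S := perpQ hQ (Submodule.span F {v, v'})) (V := Submodule.span F {v, v'}) (by
      have := finrank_perpQ_ge (hQ := hQ) (Submodule.span F {v, v'})
      have := finrank_pair_le v v'
      omega)
  obtain ⟨huv, huv'⟩ := mem_perp_pair (hQ := hQ) hu
  have hu0 : u ≠ 0 := fun h => huV (h ▸ Submodule.zero_mem _)
  obtain ⟨w0, hw0, hw0v⟩ := dual hQ (S := Submodule.span F {v', u}) (z := v) fun hm => by
    obtain ⟨a, b, hab⟩ := Submodule.mem_span_pair.mp hm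
    rcases eq_or_ne b 0 with rfl | hb0
    · rw [zero_smul, add_zero] at hab
      rcases eq_or_ne a 0 with rfl | ha0
      · exact hv0 (by rw [← hab, zero_smul])
      · exact hv'v (Submodule.mem_span_singleton.mpr
          ⟨a⁻¹, by rw [← hab, smul_smul, inv_mul_cancel₀ ha0, one_smul]⟩)
    · refine huV (Submodule.mem_span_pair.mpr ⟨b⁻¹, -(b⁻¹ * a), ?_⟩)
      rw [← inv_smul_smul₀ hb0 u, eq_sub_of_add_eq' hab]
      module
  have hw0v' : B w0 v' = 0 := hw0 v' (Submodule.subset_span (by simp))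
  have hw0u : B w0 u = 0 := hw0 u (Submodule.subset_span (by simp))
  have hfull : Full Q M u := by
    refine ⟨huQ, fun w hwu => ?_⟩
    have hcu : B (B w v • w0) u = 0 := by rw [hb.smul_left, hw0u, mul_zero]
    have hdu : B (w - B w v • w0) u = 0 := by rw [form_sub_left (bil hQ), hwu, hcu, sub_zero]
    have hdv : B (w - B w v • w0) v = 0 := by
      rw [form_sub_left (bil hQ), hb.smul_left, hw0v, mul_one, sub_self]
    rw [← add_sub_cancel (B w v • w0) w, sieg_add_right hQ huQ hcu hdu]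
    refine M.mul_mem ?_ (hbase u _ huQ huv hdv hdu)
    have h1 : B (((g⁻¹ : GL ι F) : Matrix ι ι F) *ᵥ u) v = 0 := by
      rw [← B_map hiso, gl_mulVec_inv]; exact huv'
    have h3 : B (((g⁻¹ : GL ι F) : Matrix ι ι F) *ᵥ (B w v • w0)) v = 0 := by
      rw [← B_map hiso, gl_mulVec_inv, ← hv', hb.smul_left, hw0v', mul_zero]
    have h4 : B (((g⁻¹ : GL ι F) : Matrix ι ι F) *ᵥ (B w v • w0))
        (((g⁻¹ : GL ι F) : Matrix ι ι F) *ᵥ u) = 0 := by
      rw [← B_map hiso, gl_mulVec_inv, gl_mulVec_inv, hcu]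
    have h5 : Q (((g⁻¹ : GL ι F) : Matrix ι ι F) *ᵥ u) = 0 := by
      rw [← hiso, gl_mulVec_inv, huQ]
    have := M.mul_mem (M.mul_mem hgM (hbase _ _ h5 h1 h3 h4)) (M.inv_mem hgM)
    rwa [conj_sieg hQ hiso h5 h4, gl_mulVec_inv, gl_mulVec_inv] at this
  -- every singular vector orthogonal to `v` is a full centre
  have near : ∀ a x, Full Q M a → B a v = 0 → Q x = 0 → B x v = 0 → B a x ≠ 0 → Full Q M x := by
    intro a x haF hav hxQ hxv hne
    obtain ⟨p0, hp0v, hp0a, hp0x⟩ : ∃ p, B p v = 0 ∧ B p a = 1 ∧ B p x = 1 := by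
      refine ⟨(B a x)⁻¹ • (a + x), ?_, ?_, ?_⟩
      · rw [hb.smul_left, hb.add_left, hav, hxv, add_zero, mul_zero]
      · rw [hb.smul_left, hb.add_left, B_self hQ, haF.1, mul_zero, zero_add, B_comm x a,
          inv_mul_cancel₀ hne]
      · rw [hb.smul_left, hb.add_left, B_self hQ, hxQ, mul_zero, add_zero, inv_mul_cancel₀ hne]
    obtain ⟨c, hc, -⟩ := exists_singular_shift hQ h2 hv hp0v
    set p := p0 + c • v with hp
    have hpv : B p v = 0 := by rw [hp, hb.add_left, hb.smul_left, hp0v, hvv, mul_zero, add_zero]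
    have hpa : B a p = 1 := by
      rw [B_comm, hp, hb.add_left, hb.smul_left, hp0a, B_comm v a, hav, mul_zero, add_zero]
    have hpx : B x p = 1 := by
      rw [B_comm, hp, hb.add_left, hb.smul_left, hp0x, B_comm v x, hxv, mul_zero, add_zero]
    have hwp : B (x - a) p = 0 := by rw [form_sub_left (bil hQ), hpx, hpa, sub_self]
    have hxa : B (x - a) v = 0 := by rw [form_sub_left (bil hQ), hxv, hav, sub_self]
    have := full_conj hQ haF (hbase p _ hc hpv hxa hwp) (fun y => sieg_isometry hQ hc hwp y)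
    rwa [move_eq hQ hc haF.1 hxQ hpa hpx] at this
  have hperp : ∀ x, Q x = 0 → B x v = 0 → x ≠ 0 → Full Q M x := by
    intro x hxQ hxv hx0
    by_cases hne : B u x = 0
    swap
    · exact near u x hfull huv hxQ hxv hne
    have hsep : ∀ z, z ≠ 0 → Q z = 0 → ∃ y, B y v = 0 ∧ B y z ≠ 0 := by
      intro z hz0 hzQ
      obtain ⟨y, hy, hyz⟩ := dual hQ (S := Submodule.span F {v}) (z := z) fun hm => by
        obtain ⟨c, rfl⟩ := Submodule.mem_span_singleton.mp hm
        rw [hQ.smul] at hzQ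
        rcases mul_eq_zero.mp hzQ with h | h
        · exact hz0 (by rw [pow_eq_zero_iff two_ne_zero] at h; rw [h, zero_smul])
        · exact hv h
      exact ⟨y, hy v (Submodule.mem_span_singleton_self v), by rw [hyz]; exact one_ne_zero⟩
    obtain ⟨y1, hy1, hy1u⟩ := hsep u hu0 huQ
    obtain ⟨y2, hy2, hy2x⟩ := hsep x hx0 hxQ
    obtain ⟨y, hyv, hyu, hyx⟩ : ∃ y, B y v = 0 ∧ B y u ≠ 0 ∧ B y x ≠ 0 := by
      by_cases h1 : B y1 x ≠ 0
      · exact ⟨y1, hy1, hy1u, h1⟩
      by_cases h3 : B y2 u ≠ 0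
      · exact ⟨y2, hy2, h3, hy2x⟩
      push Not at h1 h3
      exact ⟨y1 + y2, by rw [hb.add_left, hy1, hy2, add_zero],
        by rw [hb.add_left, h3, add_zero]; exact hy1u,
        by rw [hb.add_left, h1, zero_add]; exact hy2x⟩
    obtain ⟨c, hc, -⟩ := exists_singular_shift hQ h2 hv hyv
    have hzv : B (y + c • v) v = 0 := by rw [hb.add_left, hb.smul_left, hyv, hvv, mul_zero, add_zero]
    have hz : ∀ z, B z v = 0 → B (y + c • v) z = B y z := fun z hz => by
      rw [hb.add_left, hb.smul_left, B_comm v z, hz, mul_zero, add_zero]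
    exact near _ x (near u _ hfull huv hc hzv (by rwa [B_comm, hz u huv])) hzv hxQ hxv
      (by rwa [hz x hxv])
  refine omega_le_of_full hQ hn5 fun z hz => ?_
  rcases eq_or_ne z 0 with rfl | hz0
  · simpa using full_smul hQ hfull 0
  by_cases hzv : B z v = 0
  · exact hperp z hz hzv hz0
  obtain ⟨t, ht, htz⟩ := dual hQ (S := Submodule.span F {v}) (z := z) fun hm => by
    obtain ⟨c, rfl⟩ := Submodule.mem_span_singleton.mp hm
    exact hzv (by rw [hb.smul_left, hvv, mul_zero])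
  have htv := ht v (Submodule.mem_span_singleton_self v)
  obtain ⟨r, hrv, hrQ, hrz⟩ : ∃ r, B r v = 0 ∧ Q r = 0 ∧ B r z ≠ 0 := by
    obtain ⟨c, hc, hc2⟩ := exists_singular_shift hQ h2 hv htv
    by_cases h : B (t + c • v) z = 0
    swap
    · exact ⟨_, by rw [hb.add_left, hb.smul_left, htv, hvv, mul_zero, add_zero], hc, h⟩
    obtain ⟨k, hk, hkQ⟩ := exists_anisotropic hQ (![v, z, t] : Fin 3 → ι → F) (by omega)
    have hkv : B k v = 0 := hk 0
    have hkz : B k z = 0 := hk 1
    have hkt : B k t = 0 := hk 2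
    have htk : B (t + k) v = 0 := by rw [hb.add_left, htv, hkv, add_zero]
    obtain ⟨c', hc', hc2'⟩ := exists_singular_shift hQ h2 hv htk
    refine ⟨_, by rw [hb.add_left, hb.smul_left, htk, hvv, mul_zero, add_zero], hc', fun h' => ?_⟩
    rw [hb.add_left, hb.smul_left, htz] at h
    rw [hb.add_left, hb.add_left, hb.smul_left, htz, hkz, add_zero] at h'
    have hvz : B v z ≠ 0 := fun e => by rw [e, mul_zero, add_zero] at h; exact one_ne_zero h
    have hcc : c' = c := mul_right_cancel₀ hvz (by linear_combination h' - h)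
    have e1 : -Q (t + k) / Q v = -Q t / Q v := by rw [← hc2, ← hc2', hcc]
    rw [div_left_inj' hv, Q_add (Q := Q), B_comm t k, hkt, add_zero] at e1
    exact hkQ (by linear_combination -e1)
  set a := (B r z)⁻¹ • r with ha
  have haQ : Q a = 0 := by rw [ha, hQ.smul, hrQ, mul_zero]
  have hav : B a v = 0 := by rw [ha, hb.smul_left, hrv, mul_zero]
  have haz : B z a = 1 := by rw [B_comm, ha, hb.smul_left, inv_mul_cancel₀ hrz]
  have ha0 : a ≠ 0 := fun h => one_ne_zero (by rw [← haz, h, zero_right hQ])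
  obtain ⟨s, hs, hsa⟩ := dual hQ (S := Submodule.span F {v}) (z := a) fun hm => by
    obtain ⟨c, hc⟩ := Submodule.mem_span_singleton.mp hm
    rw [← hc, hQ.smul] at haQ
    rcases mul_eq_zero.mp haQ with h | h
    · exact ha0 (by rw [← hc, pow_eq_zero_iff two_ne_zero |>.mp h, zero_smul])
    · exact hv h
  have hsv := hs v (Submodule.mem_span_singleton_self v)
  obtain ⟨c, hc, -⟩ := exists_singular_shift hQ h2 hv hsv
  have hxa : B (s + c • v) a = 1 := by
    rw [hb.add_left, hb.smul_left, hsa, B_comm v a, hav, mul_zero, add_zero]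
  refine full_move hQ (hperp a haQ hav ha0) (hperp _ hc ?_ fun h => ?_) hz hxa haz
  · rw [hb.add_left, hb.smul_left, hsv, hvv, mul_zero, add_zero]
  · rw [h, form_zero_left (bil hQ)] at hxa
    exact zero_ne_one hxa

theorem exists_move (hQ : Cfsg.Geo.IsNondegenerateQuadraticForm Q) (hn : 9 < Fintype.card ι)
    {v : ι → F} (hv : Q v ≠ 0) :
    ∃ g ∈ Cfsg.Geo.omegaGL Q, g ∉ Cfsg.Geo.subspaceStabilizer (Submodule.span F {v}) := by
  have hv0 : v ≠ 0 := fun h => hv (by rw [h, Q_zero hQ])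
  obtain ⟨u, hu, huv, huQ⟩ := exists_singular_avoid hQ (S := perpQ hQ (Submodule.span F {v}))
    (V := Submodule.span F {v}) (by
      have := finrank_perpQ_ge (hQ := hQ) (Submodule.span F {v})
      rw [finrank_span_singleton hv0] at this ⊢
      omega)
  have huv' : B u v = 0 := hu v (Submodule.mem_span_singleton_self v)
  have hu0 : u ≠ 0 := fun h => huv (h ▸ Submodule.zero_mem _)
  obtain ⟨w, hw, hwv⟩ := dual hQ (S := Submodule.span F {u}) (z := v) fun hm => by
    obtain ⟨c, hc⟩ := Submodule.mem_span_singleton.mp hm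
    exact hv (by rw [← hc, hQ.smul, huQ, mul_zero])
  have hwu := hw u (Submodule.mem_span_singleton_self u)
  refine ⟨_, sieg_mem_omega hQ (by omega) huQ hwu, fun hmem => huv ?_⟩
  have h := mem_subspaceStabilizer_iff.mp hmem v (Submodule.mem_span_singleton_self v)
  rw [sieg_mulVec hQ huQ hwu, B_comm v u, huv', zero_smul, add_zero, B_comm v w, hwv, mul_zero,
    sub_zero, neg_one_smul] at h
  simpa using Submodule.sub_mem _ (Submodule.mem_span_singleton_self v) h


/-- The stabiliser of a non-singular point in characteristic two is maximal. -/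
theorem maximal (hQ : Cfsg.Geo.IsNondegenerateQuadraticForm Q) (hn : 9 < Fintype.card ι)
    (h2 : (2 : F) = 0) {v : ι → F} (hv : Q v ≠ 0) :
    Cfsg.Geo.IsMaximalIn (Cfsg.Geo.omegaGL Q)
      (Cfsg.Geo.subspaceStabilizer (Submodule.span F {v}) ⊓ Cfsg.Geo.omegaGL Q) := by
  refine isMaximalIn_of inf_le_right ?_ fun M hHM hMK g hgM hgH => ?_
  · obtain ⟨g, hg, hg'⟩ := exists_move hQ hn hv
    exact ⟨g, hg, fun h => hg' h.1⟩
  exact omega_le_of_point hQ hn h2 hv hMK (fun h h1 h2 => hHM ⟨h1, h2⟩) hgM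
    fun h => hgH ⟨h, hMK hgM⟩

end Cfsg.Agent.Lib.OmegaTen.VecEven
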