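import Cfsg.Agent.Lib.OmegaTen.OrthNondegMax
import Cfsg.Agent.Lib.OmegaTen.OrthSingular
import Cfsg.Agent.Lib.OmegaTen.OrthPlaneMax
import Cfsg.Agent.Lib.OmegaTen.HalfMax
import Cfsg.Agent.Lib.OmegaTen.VecEven
import Cfsg.Agent.Lib.OmegaTen.Quad2
import Cfsg.Agent.Lib.OmegaTen.Mono.Transfer
import Cfsg.Agent.Lib.OmegaTen.Subfield.OrthSubfield
import Cfsg.Agent.Lib.OrthExtTwo.OfMatrix
import Cfsg.Agent.Lib.Subspaces.OmegaGL

/-! Rows of the table of geometric maximal subgroups of the ten-dimensional orthogonal groups. -/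

set_option autoImplicit false
set_option linter.style.haveILetI false

namespace Cfsg.Agent.Lib.OmegaTen.Rows

open Module Matrix Cfsg.Agent.Lib.Subspaces.Transvection Cfsg.Agent.Lib.Subspaces.OrthForm
  Cfsg.Agent.Lib.Subspaces.OmegaGL Cfsg.Agent.Lib.OmegaTen.OrthNondeg
  Cfsg.Agent.Lib.OmegaTen.OrthNondegMax Cfsg.Agent.Lib.K41.ExtForm Cfsg.Agent.Lib.ExtFieldMax

variable {F : Type*} [Field F] [Fintype F] {Q : (Fin 10 → F) → F}

theorem two_ne (hodd : Odd (Fintype.card F)) : (2 : F) ≠ 0 :=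
  Cfsg.Agent.Lib.Subspaces.OrthForm.two_ne_zero_of_odd hodd

theorem two_eq (hodd : ¬ Odd (Fintype.card F)) : (2 : F) = 0 := by
  by_contra h
  exact hodd (Nat.odd_iff.mpr (FiniteField.odd_card_of_char_ne_two fun hc => h (by
    have : CharP F 2 := hc ▸ ringChar.charP F
    exact CharTwo.two_eq_zero)))

/-- Totally singular subspaces. -/
theorem ts_maximal (hQ : Cfsg.Geo.IsNondegenerateQuadraticForm Q)
    (W : Submodule F (Fin 10 → F)) (hW0 : W ≠ ⊥) (hW : Cfsg.Geo.IsTotallySingularQuad Q W)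
    (h4 : Module.finrank F W = 4 → ¬ Cfsg.Geo.IsPlusTypeOn Q ⊤) :
    Cfsg.Geo.IsMaximalIn (Cfsg.Geo.omegaGL Q) (Cfsg.Geo.subspaceStabilizer W ⊓ Cfsg.Geo.omegaGL Q) := by
  have hc : 9 < Fintype.card (Fin 10) := by simp
  refine isMaximalIn_of inf_le_right ?_ fun M hHM hMK g hgM hgH => ?_
  · obtain ⟨g, hg, hg'⟩ := OrthSingular.exists_omega_not_stab hQ hc hW0 hW
    exact ⟨g, hg, fun h => hg' h.1⟩
  refine OrthSingular.omega_le_of_ts hQ hc hW0 hW ?_ hMK (fun h h1 h2 => hHM ⟨h1, h2⟩) hgM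
    fun h => hgH ⟨h, hMK hgM⟩
  rw [Fintype.card_fin]
  by_cases h : 3 + 2 * Module.finrank F W ≤ 10
  · exact Or.inl h
  refine Or.inr fun r hr hrp => ?_
  by_contra hrW
  obtain ⟨U, hU, hUd, hle⟩ := Cfsg.Agent.Lib.Subspaces.OrthSingular.ext_bound hQ hW hr hrp hrW
  rw [Fintype.card_fin] at hle
  refine h4 (by omega) ⟨U, le_top, hU, ?_⟩
  rw [hUd, finrank_top, Module.finrank_fin_fun]
  omega

/-- Non-degenerate subspaces of dimension other than five. -/
theorem nondeg_maximal (hQ : Cfsg.Geo.IsNondegenerateQuadraticForm Q)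
    (W : Submodule F (Fin 10 → F)) (hW0 : W ≠ ⊥) (hW1 : W ≠ ⊤)
    (hW : Cfsg.Geo.IsNondegenerateOn (QuadraticMap.polar Q) W) (h5 : Module.finrank F W ≠ 5)
    (h2p : Module.finrank F W = 2 → Cfsg.Geo.IsPlusTypeOn Q W → 4 ≤ Fintype.card F)
    (h8 : Module.finrank F W ≠ 8) :
    Cfsg.Geo.IsMaximalIn (Cfsg.Geo.omegaGL Q) (Cfsg.Geo.subspaceStabilizer W ⊓ Cfsg.Geo.omegaGL Q) := by
  have hc : Fintype.card (Fin 10) = 10 := Fintype.card_fin 10
  refine maximal_nondeg hQ (by omega) hW0 hW1 hW (fun h => absurd h h5) ?_ ?_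
    fun h => absurd (by omega) h5
  · rintro ⟨hq, hd, e, he, he0, heQ⟩
    rw [Nat.card_eq_fintype_card] at hq
    have := h2p hd (plus_of_singular hQ hd he he0 heQ)
    omega
  · rintro ⟨-, hd, -⟩
    have := finrank_add_perpQ (hQ := hQ) hW
    omega

theorem top_bot_ne {W : Submodule F (Fin 10 → F)} {d : ℕ} (hd : Module.finrank F W = d)
    (h0 : 0 < d) (h10 : d < 10) : W ≠ ⊥ ∧ W ≠ ⊤ := by
  refine ⟨fun h => ?_, fun h => ?_⟩
  · rw [h, finrank_bot] at hd; omega
  · rw [h, finrank_top, Module.finrank_fin_fun] at hd; omega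

/-- Five minus-type planes. -/
theorem planes_of_minus (hQ : Cfsg.Geo.IsNondegenerateQuadraticForm Q)
    (hminus : ¬ Cfsg.Geo.IsPlusTypeOn Q ⊤) {D : Fin 5 → Submodule F (Fin 10 → F)}
    (hD : Cfsg.Geo.IsOrthogonalMDecomposition Q 2 D) :
    ∀ i, ∀ v ∈ D i, Q v = 0 → v = 0 := by
  classical
  intro i v hv hvQ
  by_contra hv0
  have hd := hD.decomp.decomp
  have hall : ∀ j, ∃ e ∈ D j, e ≠ 0 ∧ Q e = 0 := by
    intro j
    obtain ⟨φ, hφ⟩ := hD.isometric i j
    refine ⟨φ ⟨v, hv⟩, (φ ⟨v, hv⟩).2, fun h => hv0 ?_, by rw [hφ]; exact hvQ⟩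
    have := φ.map_eq_zero_iff.1 (Subtype.ext h)
    exact congrArg Subtype.val this
  choose e he he0 heQ using hall
  have hb := hQ.polar_bilinear
  have horth : ∀ a b, QuadraticMap.polar Q (e a) (e b) = 0 := fun a b => by
    by_cases h : a = b
    · rw [h, B_self hQ, heQ, mul_zero]
    · exact hD.decomp.orthogonal a b h _ (he a) _ (he b)
  have hli : LinearIndependent F e := by
    rw [Fintype.linearIndependent_iff]
    intro c hc j
    have h1 := congrArg (Cfsg.Agent.Lib.Subspaces.Decomposition.comp hd j) hc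
    rw [map_sum, map_zero, Finset.sum_eq_single j (fun b _ hb' => by
      rw [map_smul, Cfsg.Agent.Lib.Subspaces.Decomposition.comp_other hd (Ne.symm hb') (he b),
        smul_zero]) (by simp), map_smul,
      Cfsg.Agent.Lib.Subspaces.Decomposition.comp_self hd (he j), smul_eq_zero] at h1
    exact h1.resolve_right (he0 j)
  refine hminus ⟨Submodule.span F (Set.range e), le_top, fun u hu => ?_, ?_⟩
  · have hperp : ∀ u ∈ Submodule.span F (Set.range e), ∀ w ∈ Submodule.span F (Set.range e),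
        QuadraticMap.polar Q u w = 0 := by
      intro u hu w hw
      refine Cfsg.Agent.Lib.Subspaces.OrthForm.perp_span hQ (fun a => ?_) w hw
      rw [B_comm]
      refine Cfsg.Agent.Lib.Subspaces.OrthForm.perp_span hQ (fun b => ?_) u hu
      exact horth a b
    induction hu using Submodule.span_induction with
    | mem x hx => obtain ⟨a, rfl⟩ := hx; exact heQ a
    | zero => exact Q_zero hQ
    | add x y hx hy hqx hqy => rw [Q_add (Q := Q), hqx, hqy, hperp x hx y hy]; ring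
    | smul c x _ hqx => rw [hQ.smul, hqx, mul_zero]
  · rw [finrank_span_eq_card hli, finrank_top, Module.finrank_fin_fun, Fintype.card_fin]

/-- Two halves that are not isometric. -/
theorem halves_maximal (hQ : Cfsg.Geo.IsNondegenerateQuadraticForm Q) (h2 : (2 : F) ≠ 0)
    (D : Fin 2 → Submodule F (Fin 10 → F))
    (hD : Cfsg.Geo.IsNondegenerateMDecomposition (QuadraticMap.polar Q) 5 D)
    (hni : ¬ Cfsg.Geo.AreIsometricFor Q (D 0) (D 1)) :
    Cfsg.Geo.IsMaximalIn (Cfsg.Geo.omegaGL Q)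
      (Cfsg.Geo.decompositionStabilizer D ⊓ Cfsg.Geo.omegaGL Q) := by
  have hc : Fintype.card (Fin 10) = 10 := Fintype.card_fin 10
  have hd := hD.decomp
  have hd0 := hd.finrank_eq 0
  have hdim := finrank_add_perpQ (hQ := hQ) (hD.nondegenerate 0)
  have hperp : perpQ hQ (D 0) = D 1 := by
    refine (Submodule.eq_of_le_of_finrank_le
      (show D 1 ≤ perpQ hQ (D 0) from fun u hu v hv => hD.orthogonal 1 0 (by decide) u hu v hv) ?_).symm
    have := hd.finrank_eq 1
    omega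
  have heq : Cfsg.Geo.decompositionStabilizer D ⊓ Cfsg.Geo.omegaGL Q =
      Cfsg.Geo.subspaceStabilizer (D 0) ⊓ Cfsg.Geo.omegaGL Q := by
    refine le_antisymm ?_ ?_
    · rintro g ⟨hg, hgΩ⟩
      obtain ⟨σ', hσ⟩ := Cfsg.Agent.Lib.Subspaces.Decomposition.exists_image_of_mem hg
      refine ⟨mem_subspaceStabilizer_iff.mpr fun u hu => ?_, hgΩ⟩
      by_cases h : σ' 0 = 0
      · exact h ▸ hσ 0 u hu
      have h1 : σ' 0 = 1 := by omega
      refine absurd ?_ hni
      exact isometric_of_map (omega_isometry hQ hgΩ) (fun v hv => h1 ▸ hσ 0 v hv)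
        (le_of_eq (by rw [hd0, hd.finrank_eq 1]))
    · rintro g ⟨hg, hgΩ⟩
      refine ⟨Cfsg.Agent.Lib.Subspaces.Decomposition.mem_stabilizer_of_fix fun i =>
        mem_subspaceStabilizer_iff.mpr fun u hu => ?_, hgΩ⟩
      fin_cases i
      · exact mem_subspaceStabilizer_iff.mp hg u hu
      · have h1 := (stab_perp_eq (hQ := hQ) (D 0)).ge ⟨hg, hgΩ⟩
        rw [hperp] at h1
        exact mem_subspaceStabilizer_iff.mp h1.1 u hu
  rw [heq]
  refine maximal_of_le hQ (by omega) (Cfsg.Agent.Lib.Subspaces.Decomposition.block_ne_bot hd 0) (hD.nondegenerate 0)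
    (by omega) (fun _ _ => h2) ?_ fun _ h => ?_
  · rintro ⟨-, h, -⟩
    omega
  · rw [hperp] at h
    obtain ⟨e, he⟩ := h
    exact hni ⟨e.symm, fun w => by simpa using (he (e.symm w)).symm⟩

/-- The unitary overfield. -/
theorem unitary_maximal (hQ : Cfsg.Geo.IsNondegenerateQuadraticForm Q)
    (K : Subalgebra F (Matrix (Fin 10) (Fin 10) F)) (hK : Cfsg.Geo.IsFieldSubalgebra 2 K)
    (hac : Cfsg.Geo.IsAdjointClosedFor (QuadraticMap.polar Q) K)
    (hnsa : ¬ Cfsg.Geo.IsSelfAdjointFor (QuadraticMap.polar Q) K)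
    (hsc : ∀ k ∈ K, ∃ c : F, ∀ v : (Fin 10 → F), Q (Matrix.mulVec k v) = c * Q v) :
    Cfsg.Geo.IsMaximalIn (Cfsg.Geo.omegaGL Q)
      (Cfsg.Geo.subalgebraNormalizer K ⊓ Cfsg.Geo.omegaGL Q) := by
  classical
  haveI : Nonempty (Fin 10) := ⟨0⟩
  letI : Field K := fieldOfSub hK
  letI hmod : Module K (Fin 10 → F) := subModule K
  haveI : @IsScalarTower F K (Fin 10 → F) Algebra.toSMul hmod.toSMul inferInstance :=
    ⟨fun a k x => smul_mulVec a (k : Matrix (Fin 10) (Fin 10) F) x⟩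
  haveI : Finite K := Finite.of_injective (fun x : K => (x : Matrix (Fin 10) (Fin 10) F)) Subtype.val_injective
  have hn5 : 5 ≤ Fintype.card (Fin 10) := by rw [Fintype.card_fin]; omega
  have hb := hQ.polar_bilinear
  let D : Cfsg.Agent.Lib.OmegaTen.OrthHerm2.Data F K (Fin 10 → F) :=
    { Q := Q
      f := LinearMap.mk₂ F (QuadraticMap.polar Q) hb.add_left (fun c x v => hb.smul_left c x v)
        hb.add_right (fun c v x => hb.smul_right c v x)
      polar := fun x y => rfl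
      smul := fun a x => hQ.smul a x
      nondeg := fun x h => by
        by_contra hx
        obtain ⟨-, y, hy⟩ := hQ.nondegenerate x hx
        exact hy (h y)
      adjoint := fun c => by
        obtain ⟨d, hd, h⟩ := hac _ c.2
        exact ⟨⟨d, hd⟩, h⟩
      not_selfAdjoint := fun h => hnsa fun k hk u v => h ⟨k, hk⟩ u v
      scale := fun c => hsc _ c.2
      degree := hK.finrank_eq
      dim := by
        rw [Module.finrank_fintype_fun_eq_card, Fintype.card_fin] }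
  have hex : ∀ M : Subgroup (GL (Fin 10) F), Cfsg.Geo.subalgebraNormalizer K ⊓ Cfsg.Geo.omegaGL Q ≤ M →
      M ≤ Cfsg.Geo.omegaGL Q → ∃ S : Cfsg.Agent.Lib.OmegaTen.OrthHerm2.Setting F K (Fin 10 → F),
        S.M = M.map (glEquiv (F := F) (ι := Fin 10)).toMonoidHom ∧ S.Q = Q ∧
          ∀ x y, S.B x y = QuadraticMap.polar Q x y := by
    intro M hHM hMS
    refine D.exists_setting _ ?_ ?_ ?_
    · intro g hg x
      obtain ⟨A, hA, rfl⟩ := Subgroup.mem_map.1 hg
      exact omega_isometry hQ (hMS hA) x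
    · intro e w g he hwe hgz hlin
      obtain ⟨A, rfl⟩ := (glEquiv (F := F) (ι := Fin 10)).surjective g
      have hA : A = sieg Q e w := gl_ext fun x => by
        rw [sieg_mulVec hQ he hwe]
        exact hgz x
      refine Subgroup.mem_map.2 ⟨A, hHM ⟨?_, hA ▸ sieg_mem_omega hQ hn5 he hwe⟩, rfl⟩
      exact mem_normalizer_of_semi K A fun c hc => ⟨c, hc, fun x => hlin ⟨c, hc⟩ x⟩
    · intro e w he hwe
      exact ⟨glEquiv (sieg Q e w), fun z => sieg_mulVec hQ he hwe z⟩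
  refine isMaximalIn_of inf_le_right ?_ ?_
  · obtain ⟨S, -, hSQ, hSB⟩ := hex _ le_rfl inf_le_right
    obtain ⟨e, y, he, hye, hns⟩ := S.exists_nonsemi
    rw [hSB] at hye
    rw [hSQ] at he
    refine ⟨sieg Q e y, sieg_mem_omega hQ hn5 he hye, fun h => hns (glEquiv (sieg Q e y)) (fun z => ?_) fun c => ?_⟩
    · rw [glEquiv_apply, sieg_mulVec hQ he hye]
      unfold Cfsg.Agent.Lib.OmegaTen.OrthHerm2.sfun
      rw [hSB, hSB, hSQ]
    · obtain ⟨d, hdK, hd⟩ := semi_of_mem_normalizer h.1 c.2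
      exact ⟨⟨d, hdK⟩, hd⟩
  · intro M hHM hMS g hg hgn
    obtain ⟨S, hSM, hSQ, hSB⟩ := hex M hHM hMS
    have hnot : ∃ k ∈ S.M, ¬ IsSemi F K k := by
      refine ⟨glEquiv g, hSM ▸ Subgroup.mem_map.2 ⟨g, hg, rfl⟩, fun hk => hgn ⟨?_, hMS hg⟩⟩
      refine mem_normalizer_of_semi K g fun c hc => ?_
      obtain ⟨d, hd⟩ := hk ⟨c, hc⟩
      exact ⟨d, d.2, hd⟩
    refine omega_le hQ hn5 fun u w hu hwu => ?_
    obtain ⟨k, hk, hkz⟩ := S.sfun_mem hnot u w (by rw [hSQ]; exact hu) (by rw [hSB]; exact hwu)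
    rw [hSM] at hk
    obtain ⟨A, hA, rfl⟩ := Subgroup.mem_map.1 hk
    have hAt : A = sieg Q u w := gl_ext fun x => by
      rw [sieg_mulVec hQ hu hwu]
      have h1 := hkz x
      unfold Cfsg.Agent.Lib.OmegaTen.OrthHerm2.sfun at h1
      rw [hSB, hSB, hSQ] at h1
      exact h1
    exact hAt ▸ hA

end Cfsg.Agent.Lib.OmegaTen.Rows
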